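import Cfsg.Agent.Mrg.Omega.Lie.End.KSideMain
import Mathlib
import Cfsg.Agent.Mrg.Omega.Lie.End.KDead
import Mathlib.GroupTheory.NoncommPiCoprod
import Cfsg.Agent.Mrg.Omega.Lie.LemmaTComp
import Cfsg.Agent.FastGrp
import Cfsg.Agent.Prune
set_option linter.all false

section
prune_inst 0x7ffceef92bbcbddfffff7e7ff7bfcffdfdbdbfffe6fffdfb7fe06bfffbff6b84cfe1fbafebe098fc5ff7e23490f87b53f9ffca3feb6bd87ffffd1ff45ffbfe1fedfebd0d51feb8b41ffe6ffffbf0778e7f3fffffffffffffffffffffffffffbeffbfffffffff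

-- part: Mrg/Omega/FOne/Lift/SdIso
section
prune_inst 0x28041000000000180000000000000000000000000000000000000040000120010001306000000010044020080040025400000038000000000000001800001000000000400000000000000800000000000000000000000000000000000000000000000
set_option linter.all false
open scoped Cfsg.Agent.FastGrp

section


/-!
# Simple modules for groups with a root group datum, the isomorphism theorem (helper650)

`R : RGD cs h p T n X`, `ρ₁`, `ρ₂` simple representations in characteristic `p` (any field), `C₁`, `C₂` the fixed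
vectors of `U`.

* `Ti_Ti` : `T_i T_i v = T_i (s_i v)`, `s_i` a sum of elements of `T` which does not depend on the representation;
* `pair_surj` : every functional on `V^U` is the restriction of a `U⁻`-fixed functional of `V`;
* **`exists_iso`** : if `τ : C₁ → C₂` is a `T`-isomorphism and `T_i` kills `C₁` iff it kills `C₂`, for all `i`, then
  `τ` extends to an isomorphism `V₁ → V₂`.
-/

set_option autoImplicit false
set_option linter.unusedSectionVars false
set_option linter.style.haveILetI false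

namespace Cfsg.Agent.Omega.FOne.Lift.Sd

open CoxeterSystem Cfsg.Agent.ChevalleyStructure.CoxeterGeom Cfsg.Agent.Tits.Roots Cfsg.Agent.Tits.Core
  Cfsg.Agent.Tits.Exchange Cfsg.Agent.Nodes.Reps Cfsg.Agent.Nodes.BNOf Cfsg.Agent.Nodes.StabComb
  Cfsg.Agent.Nodes.Bruhat Cfsg.Agent.Nodes.OppDec Cfsg.Agent.Nodes.LeviDec Cfsg.Agent.KFacts.RgdOpp
  Cfsg.Agent.Omega.CR

variable {I W Y : Type*} [Fintype I] [DecidableEq I] [Group W] [Group Y] {M : CoxeterMatrix I}
  {cs : CoxeterSystem M W} {A : I → I → ℤ} {h : IsCartan M A} {p : ℕ} {T : Subgroup Y} {n : I → Y}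
  {X : (I → ℤ) → Subgroup Y}

variable {k V V₁ V₂ : Type*} [Field k] [AddCommGroup V] [Module k V] [AddCommGroup V₁] [Module k V₁]
  [AddCommGroup V₂] [Module k V₂]

/-! ### a single datum as a family -/

section single

variable (R : RGD cs h p T n X)
include R

theorem fam_single : Fam (κ := Unit) (fun _ => cs) (fun _ => h) p T (fun _ => n) (fun _ => X) (fun _ => ⊤) where
  rgd := fun _ => R
  X_le := fun _ _ _ => le_top
  n_mem := fun _ _ => Subgroup.mem_top _
  comm := fun l m hlm => absurd (Subsingleton.elim l m) hlm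

omit R in
theorem Ut_single : Ut (κ := Unit) (fun _ => cs) (fun _ => h) (fun _ => X) = RGD.Sup X (RGD.Pos cs h) := by
  unfold Ut
  exact iSup_const

omit R in
theorem UNt_single : UNt (κ := Unit) (fun _ => cs) (fun _ => h) (fun _ => X) = UN cs h X := by
  unfold UNt
  exact iSup_const

omit R in
theorem GGt_single : GGt (κ := Unit) (fun _ => cs) (fun _ => h) T (fun _ => X) = GG cs h T X := by
  unfold GGt
  rw [iSup_const]
  exact sup_eq_right.2 le_sup_left

variable [Finite Y] [Finite W] [Fact p.Prime] [CharP k p] [FiniteDimensional k V] (ρ : Y →* Module.End k V)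
  (hirr : ∀ L : Submodule k V, Ivt ρ (GG cs h T X) L → L = ⊥ ∨ L = ⊤)
include hirr

theorem simp_fx [Nontrivial V] : Simp ρ T (fx ρ (RGD.Sup X (RGD.Pos cs h))) := by
  have h1 := (fam_single R).simp ρ (by rw [GGt_single]; exact hirr)
  rwa [Ut_single] at h1

theorem gen_fx [Nontrivial V] : Sp ρ (UN cs h X) (fx ρ (RGD.Sup X (RGD.Pos cs h))) = ⊤ := by
  have hir : ∀ L : Submodule k V, Ivt ρ (GGt (κ := Unit) (fun _ => cs) (fun _ => h) T (fun _ => X)) L →
      L = ⊥ ∨ L = ⊤ := by rw [GGt_single]; exact hirr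
  have h1 := ((fam_single R).main ρ hir).gen hir
  rwa [Ut_single, UNt_single] at h1

/-- `V^U` meets every nonzero `T U`-invariant subspace -/
theorem fx_le_of {N : Submodule k V} (hN0 : N ≠ ⊥) (hU : Ivt ρ (RGD.Sup X (RGD.Pos cs h)) N) (hT : Ivt ρ T N) :
    fx ρ (RGD.Sup X (RGD.Pos cs h)) ≤ N := by
  have h1 := (fam_single R).fx_le ρ (by rw [GGt_single]; exact hirr) hN0 (by rw [Ut_single]; exact hU) hT
  rwa [Ut_single] at h1

theorem exists_pair [Nontrivial V] {v : V} (hv : v ∈ fx ρ (RGD.Sup X (RGD.Pos cs h))) (hv0 : v ≠ 0) :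
    ∃ φ ∈ fx ((dualRep ρ :)) (UN cs h X), φ v ≠ 0 := by
  have hir : ∀ L : Submodule k V, Ivt ρ (GGt (κ := Unit) (fun _ => cs) (fun _ => h) T (fun _ => X)) L →
      L = ⊥ ∨ L = ⊤ := by rw [GGt_single]; exact hirr
  have h1 := ((fam_single R).eq_fx ρ hir ((fam_single R).main ρ hir)).2 v (by rw [Ut_single]; exact hv) hv0
  rwa [UNt_single] at h1

/-- a `U⁻`-fixed functional which is zero on `V^U` is zero -/
theorem eq_zero_of_fx [Nontrivial V] {φ : Module.Dual k V} (hφ : φ ∈ fx ((dualRep ρ :)) (UN cs h X))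
    (h0 : ∀ v ∈ fx ρ (RGD.Sup X (RGD.Pos cs h)), φ v = 0) : φ = 0 :=
  eq_zero_of_Sp ρ (gen_fx R ρ hirr) hφ h0

/-- **every functional on `V^U` is the restriction of a `U⁻`-fixed functional** -/
theorem pair_surj [Nontrivial V] (ψ : fx ρ (RGD.Sup X (RGD.Pos cs h)) →ₗ[k] k) :
    ∃ φ ∈ fx ((dualRep ρ :)) (UN cs h X), ∀ v : fx ρ (RGD.Sup X (RGD.Pos cs h)), φ v = ψ v := by
  let Φ : fx ((dualRep ρ :)) (UN cs h X) →ₗ[k] Module.Dual k (fx ρ (RGD.Sup X (RGD.Pos cs h))) :=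
    { toFun := fun φ => φ.1.comp (fx ρ (RGD.Sup X (RGD.Pos cs h))).subtype
      map_add' := fun _ _ => rfl
      map_smul' := fun _ _ => rfl }
  have hΦ : Function.Injective Φ := by
    rw [injective_iff_map_eq_zero]
    intro φ hφ
    apply Subtype.ext
    refine eq_zero_of_fx R ρ hirr φ.2 fun v hv => ?_
    exact congrArg (fun ψ : Module.Dual k (fx ρ (RGD.Sup X (RGD.Pos cs h))) => ψ ⟨v, hv⟩) hφ
  let Ψ : fx ρ (RGD.Sup X (RGD.Pos cs h)) →ₗ[k] Module.Dual k (fx ((dualRep ρ :)) (UN cs h X)) :=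
    { toFun := fun v =>
        { toFun := fun φ => φ.1 v.1
          map_add' := fun _ _ => rfl
          map_smul' := fun _ _ => rfl }
      map_add' := fun v w => by
        ext φ
        exact map_add φ.1 v.1 w.1
      map_smul' := fun c v => by
        ext φ
        exact map_smul φ.1 c v.1 }
  have hΨ : Function.Injective Ψ := by
    rw [injective_iff_map_eq_zero]
    intro v hv
    by_contra hv0
    obtain ⟨φ, hφ, hφ0⟩ := exists_pair R ρ hirr v.2 (fun h0 => hv0 (Subtype.ext h0))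
    exact hφ0 (congrArg (fun ψ : Module.Dual k (fx ((dualRep ρ :)) (UN cs h X)) => ψ ⟨φ, hφ⟩) hv)
  have e1 := LinearMap.finrank_le_finrank_of_injective hΨ
  have e2 := (Subspace.dual_finrank_eq (K := k) (V := fx ((dualRep ρ :)) (UN cs h X)))
  have e3 := (Subspace.dual_finrank_eq (K := k) (V := fx ρ (RGD.Sup X (RGD.Pos cs h))))
  have e4 := LinearMap.finrank_le_finrank_of_injective hΦ
  have hs : Function.Surjective Φ := by
    rw [← LinearMap.range_eq_top]
    apply Submodule.eq_top_of_finrank_eq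
    rw [LinearMap.finrank_range_of_inj hΦ]
    omega
  obtain ⟨φ, hφ⟩ := hs ψ
  exact ⟨φ.1, φ.2, fun v => DFunLike.congr_fun hφ v⟩

end single

/-! ### the operators `T_i` -/

section Ti

variable (R : RGD cs h p T n X)
include R

theorem exists_tt (i : I) : ∃ t : Y → Y, (∀ x, t x ∈ T) ∧ ∀ x ∈ X (sr i), x ≠ 1 →
    ∃ a ∈ X (sr i), ∃ b ∈ X (sr i), n i * x * n i = a * n i * t x * b := by
  have key : ∀ x : Y, ∃ t ∈ T, x ∈ X (sr i) → x ≠ 1 →
      ∃ a ∈ X (sr i), ∃ b ∈ X (sr i), n i * x * n i = a * n i * t * b := by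
    intro x
    by_cases hx : x ∈ X (sr i) ∧ x ≠ 1
    · obtain ⟨a, ha, t, ht, b, hb, e⟩ := n_mul_n R i hx.1 hx.2
      exact ⟨t, ht, fun _ _ => ⟨a, ha, b, hb, e⟩⟩
    · exact ⟨1, one_mem _, fun h1 h2 => absurd ⟨h1, h2⟩ hx⟩
  choose t ht h1 using key
  exact ⟨t, ht, fun x hx hx1 => h1 x hx hx1⟩

variable [Finite Y] [Finite W] [Fact p.Prime] [CharP k p]

/-- `s_i` -/
noncomputable def si (X : (I → ℤ) → Subgroup Y) (ρ : Y →* Module.End k V) (i : I) (t : Y → Y) (v : V) : V := by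
  classical
  letI := Fintype.ofFinite (X (sr i))
  exact ∑ x ∈ Finset.univ.erase (1 : X (sr i)), ρ (t x) v

omit R [Finite W] [Fact p.Prime] [CharP k p] in
theorem si_mem {ρ : Y →* Module.End k V} {i : I} {t : Y → Y} (ht : ∀ x, t x ∈ T) {N : Submodule k V}
    (hN : Ivt ρ T N) {v : V} (hv : v ∈ N) : si X ρ i t v ∈ N := by
  unfold si
  exact N.sum_mem fun x _ => hN _ (ht x) v hv

theorem Ti_Ti (ρ : Y →* Module.End k V) {i : I} {t : Y → Y}
    (htt : ∀ x ∈ X (sr i), x ≠ 1 → ∃ a ∈ X (sr i), ∃ b ∈ X (sr i), n i * x * n i = a * n i * t x * b)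
    (hTU : Ivt ρ T (fx ρ (RGD.Sup X (RGD.Pos cs h)))) {v : V} (hv : v ∈ fx ρ (RGD.Sup X (RGD.Pos cs h))) :
    Ti n X ρ i (Ti n X ρ i v) = Ti n X ρ i (si X ρ i t v) := by
  classical
  letI := Fintype.ofFinite (X (sr i))
  have key : ∀ x : X (sr i), x ≠ 1 → sg ρ (X (sr i)) (ρ (n i) (ρ (x : Y) (ρ (n i) v))) = Ti n X ρ i (ρ (t x) v) := by
    intro x hx1
    obtain ⟨a, ha, b, hb, e⟩ := htt x x.2 (fun h => hx1 (Subtype.ext h))
    rw [← rho_mul, ← rho_mul, e, rho_mul, X_fix R ρ hv i hb, rho_mul, rho_mul, sg_rho_of_mem ρ _ ha, Ti_apply]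
  have h0 : sg ρ (X (sr i)) (ρ (n i) (ρ ((1 : X (sr i)) : Y) (ρ (n i) v))) = 0 := by
    rw [Subgroup.coe_one, rho_one, ← rho_mul ρ (n i)]
    exact sg_fixed ρ (p_dvd R i) fun a ha => X_fix R ρ (hTU _ (n_sq R i) v hv) i ha
  have h1 : Ti n X ρ i (Ti n X ρ i v) =
      ∑ x : X (sr i), sg ρ (X (sr i)) (ρ (n i) (ρ (x : Y) (ρ (n i) v))) := by
    rw [Ti_apply ρ i (Ti n X ρ i v), Ti_apply ρ i v, sg_def ρ (X (sr i)) (ρ (n i) v), map_sum, map_sum]
  rw [h1, ← Finset.add_sum_erase _ _ (Finset.mem_univ (1 : X (sr i))), h0, zero_add]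
  have h2 : si X ρ i t v = ∑ x ∈ Finset.univ.erase (1 : X (sr i)), ρ (t x) v := rfl
  rw [h2, map_sum]
  exact Finset.sum_congr rfl fun x hx => key x (Finset.ne_of_mem_erase hx)

/-- on a simple `T_i`-stable subspace `T_i` is `0` or `s_i` -/
theorem Ti_eq_si (ρ : Y →* Module.End k V) {i : I} {t : Y → Y} (ht : ∀ x, t x ∈ T)
    (htt : ∀ x ∈ X (sr i), x ≠ 1 → ∃ a ∈ X (sr i), ∃ b ∈ X (sr i), n i * x * n i = a * n i * t x * b)
    (hs : Simp ρ T (fx ρ (RGD.Sup X (RGD.Pos cs h)))) (h0 : ¬ ∀ v ∈ fx ρ (RGD.Sup X (RGD.Pos cs h)), Ti n X ρ i v = 0)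
    {v : V} (hv : v ∈ fx ρ (RGD.Sup X (RGD.Pos cs h))) : Ti n X ρ i v = si X ρ i t v := by
  set C := fx ρ (RGD.Sup X (RGD.Pos cs h)) with hC
  -- the kernel
  have h1 : Ivt ρ T (C ⊓ LinearMap.ker (Ti n X ρ i)) := by
    rintro s hs' v ⟨hv, hv'⟩
    refine ⟨hs.inv s hs' v hv, ?_⟩
    rw [SetLike.mem_coe, LinearMap.mem_ker] at hv' ⊢
    rw [Ti_rho R ρ i hs', hv', map_zero]
  have h2 : C ⊓ LinearMap.ker (Ti n X ρ i) = ⊥ := by
    refine (hs.simple _ inf_le_left h1).resolve_right fun h3 => h0 fun v hv => ?_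
    rw [← h3] at hv
    exact hv.2
  have h3 := Ti_Ti R ρ htt hs.inv hv
  have h4 : Ti n X ρ i v - si X ρ i t v ∈ C ⊓ LinearMap.ker (Ti n X ρ i) := by
    refine ⟨Submodule.sub_mem _ (Ti_fix R ρ hv i) (si_mem ht hs.inv hv), ?_⟩
    rw [SetLike.mem_coe, LinearMap.mem_ker, map_sub, h3, sub_self]
  rw [h2, Submodule.mem_bot, sub_eq_zero] at h4
  exact h4

end Ti

/-! ### products -/

/-- the product representation -/
def prodRep (ρ₁ : Y →* Module.End k V₁) (ρ₂ : Y →* Module.End k V₂) : Y →* Module.End k (V₁ × V₂) where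
  toFun g := (ρ₁ g).prodMap (ρ₂ g)
  map_one' := by
    rw [map_one, map_one]; rfl
  map_mul' a b := by
    rw [map_mul, map_mul]; rfl

theorem prodRep_apply (ρ₁ : Y →* Module.End k V₁) (ρ₂ : Y →* Module.End k V₂) (g : Y) (v : V₁ × V₂) :
    prodRep ρ₁ ρ₂ g v = (ρ₁ g v.1, ρ₂ g v.2) := rfl

theorem sg_prod [Finite Y] (ρ₁ : Y →* Module.End k V₁) (ρ₂ : Y →* Module.End k V₂) (B : Subgroup Y) (v : V₁ × V₂) :
    sg (prodRep ρ₁ ρ₂) B v = (sg ρ₁ B v.1, sg ρ₂ B v.2) := by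
  classical
  letI := Fintype.ofFinite B
  rw [sg_def, sg_def, sg_def]
  exact Prod.ext (by rw [Prod.fst_sum]; rfl) (by rw [Prod.snd_sum]; rfl)

theorem Ti_prod [Finite Y] (ρ₁ : Y →* Module.End k V₁) (ρ₂ : Y →* Module.End k V₂) (i : I) (v : V₁ × V₂) :
    Ti n X (prodRep ρ₁ ρ₂) i v = (Ti n X ρ₁ i v.1, Ti n X ρ₂ i v.2) := by
  rw [Ti_apply, Ti_apply, Ti_apply, prodRep_apply, sg_prod]

/-! ### the isomorphism -/

section iso

variable (R : RGD cs h p T n X) [Finite Y] [Finite W] [Fact p.Prime] [CharP k p] [FiniteDimensional k V₁]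
  [FiniteDimensional k V₂] [Nontrivial V₁] [Nontrivial V₂] (ρ₁ : Y →* Module.End k V₁) (ρ₂ : Y →* Module.End k V₂)
  (hirr₁ : ∀ L : Submodule k V₁, Ivt ρ₁ (GG cs h T X) L → L = ⊥ ∨ L = ⊤)
  (hirr₂ : ∀ L : Submodule k V₂, Ivt ρ₂ (GG cs h T X) L → L = ⊥ ∨ L = ⊤)
  (τ : fx ρ₁ (RGD.Sup X (RGD.Pos cs h)) →ₗ[k] fx ρ₂ (RGD.Sup X (RGD.Pos cs h)))
  (hτ0 : τ ≠ 0)
  (hτ : ∀ t ∈ T, ∀ (v w : fx ρ₁ (RGD.Sup X (RGD.Pos cs h))), (w : V₁) = ρ₁ t v → (τ w : V₂) = ρ₂ t (τ v))
  (hz : ∀ i, (∀ v ∈ fx ρ₁ (RGD.Sup X (RGD.Pos cs h)), Ti n X ρ₁ i v = 0) ↔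
    ∀ v ∈ fx ρ₂ (RGD.Sup X (RGD.Pos cs h)), Ti n X ρ₂ i v = 0)

/-- the graph of `τ` -/
def gr (τ : fx ρ₁ (RGD.Sup X (RGD.Pos cs h)) →ₗ[k] fx ρ₂ (RGD.Sup X (RGD.Pos cs h))) : Submodule k (V₁ × V₂) :=
  LinearMap.range ((fx ρ₁ (RGD.Sup X (RGD.Pos cs h))).subtype.prod
    ((fx ρ₂ (RGD.Sup X (RGD.Pos cs h))).subtype.comp τ))

omit [Finite Y] [Finite W] [Fact p.Prime] [CharP k p] [FiniteDimensional k V₁] [FiniteDimensional k V₂]
  [Nontrivial V₁] [Nontrivial V₂] in
theorem mem_gr {v : V₁ × V₂} : v ∈ gr ρ₁ ρ₂ τ ↔ ∃ c : fx ρ₁ (RGD.Sup X (RGD.Pos cs h)), v = ((c : V₁), (τ c : V₂)) := by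
  constructor
  · rintro ⟨c, rfl⟩
    exact ⟨c, rfl⟩
  · rintro ⟨c, rfl⟩
    exact ⟨c, rfl⟩

include R hirr₁ hirr₂ hτ

theorem gr_simp : Simp (prodRep ρ₁ ρ₂) T (gr ρ₁ ρ₂ τ) where
  ne := by
    intro h0
    apply (simp_fx R ρ₁ hirr₁).ne
    rw [eq_bot_iff]
    intro v hv
    have h1 : ((v, (τ ⟨v, hv⟩ : V₂)) : V₁ × V₂) ∈ gr ρ₁ ρ₂ τ := (mem_gr ρ₁ ρ₂ τ).2 ⟨⟨v, hv⟩, rfl⟩
    rw [h0, Submodule.mem_bot] at h1
    exact (Submodule.mem_bot k).2 (congrArg Prod.fst h1)
  inv := by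
    intro t ht v hv
    obtain ⟨c, rfl⟩ := (mem_gr ρ₁ ρ₂ τ).1 hv
    refine (mem_gr ρ₁ ρ₂ τ).2 ⟨⟨ρ₁ t c, (simp_fx R ρ₁ hirr₁).inv t ht c c.2⟩, ?_⟩
    exact Prod.ext rfl (hτ t ht c ⟨ρ₁ t c, (simp_fx R ρ₁ hirr₁).inv t ht c c.2⟩ rfl).symm
  simple := by
    intro L hL hLi
    have h1 : Ivt ρ₁ T (L.map (LinearMap.fst k V₁ V₂)) := by
      rintro t ht _ ⟨v, hv, rfl⟩
      exact ⟨_, hLi t ht v hv, rfl⟩
    have h2 : L.map (LinearMap.fst k V₁ V₂) ≤ fx ρ₁ (RGD.Sup X (RGD.Pos cs h)) := by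
      rintro _ ⟨v, hv, rfl⟩
      obtain ⟨c, rfl⟩ := (mem_gr ρ₁ ρ₂ τ).1 (hL hv)
      exact c.2
    rcases (simp_fx R ρ₁ hirr₁).simple _ h2 h1 with h3 | h3
    · left
      rw [eq_bot_iff]
      intro v hv
      obtain ⟨c, rfl⟩ := (mem_gr ρ₁ ρ₂ τ).1 (hL hv)
      have h4 : (c : V₁) ∈ L.map (LinearMap.fst k V₁ V₂) := ⟨_, hv, rfl⟩
      rw [h3, Submodule.mem_bot] at h4
      have h5 : c = 0 := Subtype.ext h4
      rw [h5, map_zero]
      exact Submodule.zero_mem _
    · right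
      refine le_antisymm hL ?_
      intro v hv
      obtain ⟨c, rfl⟩ := (mem_gr ρ₁ ρ₂ τ).1 hv
      have h4 : (c : V₁) ∈ L.map (LinearMap.fst k V₁ V₂) := by rw [h3]; exact c.2
      obtain ⟨w, hw, e⟩ := h4
      obtain ⟨c', rfl⟩ := (mem_gr ρ₁ ρ₂ τ).1 (hL hw)
      have h5 : c' = c := Subtype.ext e
      rw [← h5]
      exact hw

theorem gr_fix : gr ρ₁ ρ₂ τ ≤ fx (prodRep ρ₁ ρ₂) (RGD.Sup X (RGD.Pos cs h)) := by
  intro v hv
  obtain ⟨c, rfl⟩ := (mem_gr ρ₁ ρ₂ τ).1 hv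
  intro u hu
  rw [prodRep_apply]
  exact Prod.ext (c.2 u hu) ((τ c).2 u hu)

include hz in
theorem gr_Ti (i : I) {v : V₁ × V₂} (hv : v ∈ gr ρ₁ ρ₂ τ) : Ti n X (prodRep ρ₁ ρ₂) i v ∈ gr ρ₁ ρ₂ τ := by
  classical
  obtain ⟨c, rfl⟩ := (mem_gr ρ₁ ρ₂ τ).1 hv
  rw [Ti_prod]
  by_cases h0 : ∀ v ∈ fx ρ₁ (RGD.Sup X (RGD.Pos cs h)), Ti n X ρ₁ i v = 0
  · have h1 := h0 c c.2
    have h2 := (hz i).1 h0 (τ c) (τ c).2
    dsimp only
    rw [h1, h2]
    exact Submodule.zero_mem _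
  · have h0' : ¬ ∀ v ∈ fx ρ₂ (RGD.Sup X (RGD.Pos cs h)), Ti n X ρ₂ i v = 0 := fun h1 => h0 ((hz i).2 h1)
    obtain ⟨t, ht, htt⟩ := exists_tt R i
    dsimp only
    rw [Ti_eq_si R ρ₁ ht htt (simp_fx R ρ₁ hirr₁) h0 c.2, Ti_eq_si R ρ₂ ht htt (simp_fx R ρ₂ hirr₂) h0' (τ c).2]
    letI := Fintype.ofFinite (X (sr i))
    have e1 : si X ρ₁ i t c = ∑ x ∈ Finset.univ.erase (1 : X (sr i)), ρ₁ (t x) c := rfl
    have e2 : si X ρ₂ i t (τ c : V₂) = ∑ x ∈ Finset.univ.erase (1 : X (sr i)), ρ₂ (t x) (τ c) := rfl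
    have e3 : ((∑ x ∈ Finset.univ.erase (1 : X (sr i)), ρ₁ (t x) c,
        ∑ x ∈ Finset.univ.erase (1 : X (sr i)), ρ₂ (t x) (τ c)) : V₁ × V₂) =
        ∑ x ∈ Finset.univ.erase (1 : X (sr i)), prodRep ρ₁ ρ₂ (t x) ((c : V₁), (τ c : V₂)) :=
      Prod.ext (by rw [Prod.fst_sum]; rfl) (by rw [Prod.snd_sum]; rfl)
    rw [e1, e2, e3]
    exact Submodule.sum_mem _ fun x _ => (gr_simp R ρ₁ ρ₂ hirr₁ hirr₂ τ hτ).inv _ (ht x) _ hv

/-- the module generated by the graph -/
def gN (τ : fx ρ₁ (RGD.Sup X (RGD.Pos cs h)) →ₗ[k] fx ρ₂ (RGD.Sup X (RGD.Pos cs h))) : Submodule k (V₁ × V₂) :=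
  Sp (prodRep ρ₁ ρ₂) (UN cs h X) (gr ρ₁ ρ₂ τ)

include hz in
theorem gN_inv : GG cs h T X ≤ stS (prodRep ρ₁ ρ₂) (gN ρ₁ ρ₂ τ) := by
  have hs := gr_simp R ρ₁ ρ₂ hirr₁ hirr₂ τ hτ
  have hU := gr_fix R ρ₁ ρ₂ hirr₁ hirr₂ τ hτ
  refine stable R (prodRep ρ₁ ρ₂) hs.inv hU (fun i v hv => n_mem R (prodRep ρ₁ ρ₂) hs hU
    (fun v hv => gr_Ti R ρ₁ ρ₂ hirr₁ hirr₂ τ hτ hz i hv) hv) (C := ⊥) (fun i c hc => ?_) bot_le le_rfl
    (fun b hb => ⟨1, one_mem _, b, hb, (one_mul b).symm⟩) fun t ht b hb => T_norm_UN R ht hb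
  rw [Subgroup.mem_bot.1 hc, mul_one, one_mul]

include hτ0 in
/-- it is proper -/
theorem gN_ne : gN ρ₁ ρ₂ τ ≠ ⊤ := by
  intro h0
  obtain ⟨c, hc⟩ : ∃ c, τ c ≠ 0 := by
    by_contra hcon
    push Not at hcon
    exact hτ0 (LinearMap.ext hcon)
  obtain ⟨φ₂, hφ₂, hne⟩ := exists_pair R ρ₂ hirr₂ (τ c).2 (fun h1 => hc (Subtype.ext h1))
  obtain ⟨φ₁, hφ₁, h1⟩ := pair_surj R ρ₁ hirr₁ (φ₂.comp ((fx ρ₂ (RGD.Sup X (RGD.Pos cs h))).subtype.comp τ))
  -- `φ₁ - φ₂` vanishes on the module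
  have key : ∀ v ∈ gN ρ₁ ρ₂ τ, φ₁ v.1 = φ₂ v.2 := by
    intro v hv
    unfold gN Sp at hv
    induction hv using Submodule.span_induction with
    | mem x hx =>
      obtain ⟨b, hb, w, hw, rfl⟩ := hx
      obtain ⟨c, rfl⟩ := (mem_gr ρ₁ ρ₂ τ).1 hw
      rw [prodRep_apply]
      change φ₁ (ρ₁ b c) = φ₂ (ρ₂ b (τ c))
      rw [(mem_fx_dual ρ₁).1 hφ₁ b hb, (mem_fx_dual ρ₂).1 hφ₂ b hb, h1]
      rfl
    | zero => rw [Prod.fst_zero, Prod.snd_zero, map_zero, map_zero]
    | add x y _ _ hx hy => rw [Prod.fst_add, Prod.snd_add, map_add, map_add, hx, hy]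
    | smul a x _ hx => rw [Prod.smul_fst, Prod.smul_snd, map_smul, map_smul, hx]
  have h2 := key (0, (τ c : V₂)) (by rw [h0]; trivial)
  rw [map_zero] at h2
  exact hne h2.symm

include hτ0 hz

/-- **The isomorphism.** -/
theorem exists_iso : ∃ θ : V₁ ≃ₗ[k] V₂, ∀ g ∈ GG cs h T X, ∀ v, θ (ρ₁ g v) = ρ₂ g (θ v) := by
  have hinv := gN_inv R ρ₁ ρ₂ hirr₁ hirr₂ τ hτ hz
  have hne := gN_ne R ρ₁ ρ₂ hirr₁ hirr₂ τ hτ0 hτ
  have hgr : gr ρ₁ ρ₂ τ ≤ gN ρ₁ ρ₂ τ := le_Sp _
  obtain ⟨c, hc⟩ : ∃ c, τ c ≠ 0 := by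
    by_contra hcon
    push Not at hcon
    exact hτ0 (LinearMap.ext hcon)
  have hc0 : (c : V₁) ≠ 0 := by
    intro h1
    have : c = 0 := Subtype.ext h1
    rw [this, map_zero] at hc
    exact hc rfl
  have hc0' : (τ c : V₂) ≠ 0 := fun h1 => hc (Subtype.ext h1)
  set N := gN ρ₁ ρ₂ τ with hN
  -- the two kernels
  have i1 : Ivt ρ₁ (GG cs h T X) (N.comap (LinearMap.inl k V₁ V₂)) := by
    intro g hg v hv
    have h1 := (hinv hg ((v, 0) : V₁ × V₂)).1 hv
    rw [prodRep_apply, map_zero] at h1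
    exact h1
  have i2 : Ivt ρ₂ (GG cs h T X) (N.comap (LinearMap.inr k V₁ V₂)) := by
    intro g hg v hv
    have h1 := (hinv hg ((0, v) : V₁ × V₂)).1 hv
    rw [prodRep_apply, map_zero] at h1
    exact h1
  have hcm : (((c : V₁), (τ c : V₂)) : V₁ × V₂) ∈ N := hgr ((mem_gr ρ₁ ρ₂ τ).2 ⟨c, rfl⟩)
  have top_of : (N.comap (LinearMap.inl k V₁ V₂)) = ⊤ → (N.comap (LinearMap.inr k V₁ V₂)) = ⊤ → False := by
    intro h1 h2
    apply hne
    rw [eq_top_iff]
    rintro ⟨a, b⟩ -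
    have h3 : ((a, 0) : V₁ × V₂) ∈ N := by
      have : a ∈ N.comap (LinearMap.inl k V₁ V₂) := by rw [h1]; trivial
      exact this
    have h4 : ((0, b) : V₁ × V₂) ∈ N := by
      have : b ∈ N.comap (LinearMap.inr k V₁ V₂) := by rw [h2]; trivial
      exact this
    have h5 := N.add_mem h3 h4
    rwa [Prod.mk_add_mk, add_zero, zero_add] at h5
  have k1 : N.comap (LinearMap.inl k V₁ V₂) = ⊥ := by
    refine (hirr₁ _ i1).resolve_right fun h1 => ?_
    refine top_of h1 ((hirr₂ _ i2).resolve_left fun h2 => ?_)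
    have h3 : (((c : V₁), 0) : V₁ × V₂) ∈ N := by
      have : (c : V₁) ∈ N.comap (LinearMap.inl k V₁ V₂) := by rw [h1]; trivial
      exact this
    have h4 := N.sub_mem hcm h3
    rw [Prod.mk_sub_mk, sub_self, sub_zero] at h4
    have h5 : (τ c : V₂) ∈ N.comap (LinearMap.inr k V₁ V₂) := h4
    rw [h2, Submodule.mem_bot] at h5
    exact hc0' h5
  have k2 : N.comap (LinearMap.inr k V₁ V₂) = ⊥ := by
    refine (hirr₂ _ i2).resolve_right fun h1 => ?_
    have h3 : ((0, (τ c : V₂)) : V₁ × V₂) ∈ N := by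
      have : (τ c : V₂) ∈ N.comap (LinearMap.inr k V₁ V₂) := by rw [h1]; trivial
      exact this
    have h4 := N.sub_mem hcm h3
    rw [Prod.mk_sub_mk, sub_self, sub_zero] at h4
    have h5 : (c : V₁) ∈ N.comap (LinearMap.inl k V₁ V₂) := h4
    rw [k1, Submodule.mem_bot] at h5
    exact hc0 h5
  -- the projections
  let p₁ : N →ₗ[k] V₁ := (LinearMap.fst k V₁ V₂).comp N.subtype
  let p₂ : N →ₗ[k] V₂ := (LinearMap.snd k V₁ V₂).comp N.subtype
  have b1 : Function.Bijective p₁ := by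
    constructor
    · rw [injective_iff_map_eq_zero]
      rintro ⟨⟨a, b⟩, hab⟩ h1
      change a = 0 at h1
      subst h1
      have h2 : b ∈ N.comap (LinearMap.inr k V₁ V₂) := hab
      rw [k2, Submodule.mem_bot] at h2
      subst h2
      rfl
    · rw [← LinearMap.range_eq_top]
      refine (hirr₁ _ ?_).resolve_left fun h1 => ?_
      · rintro g hg _ ⟨v, rfl⟩
        exact ⟨⟨prodRep ρ₁ ρ₂ g v, (hinv hg _).1 v.2⟩, rfl⟩
      · have h2 : p₁ ⟨_, hcm⟩ ∈ LinearMap.range p₁ := ⟨_, rfl⟩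
        rw [h1, Submodule.mem_bot] at h2
        exact hc0 h2
  have b2 : Function.Bijective p₂ := by
    constructor
    · rw [injective_iff_map_eq_zero]
      rintro ⟨⟨a, b⟩, hab⟩ h1
      change b = 0 at h1
      subst h1
      have h2 : a ∈ N.comap (LinearMap.inl k V₁ V₂) := hab
      rw [k1, Submodule.mem_bot] at h2
      subst h2
      rfl
    · rw [← LinearMap.range_eq_top]
      refine (hirr₂ _ ?_).resolve_left fun h1 => ?_
      · rintro g hg _ ⟨v, rfl⟩
        exact ⟨⟨prodRep ρ₁ ρ₂ g v, (hinv hg _).1 v.2⟩, rfl⟩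
      · have h2 : p₂ ⟨_, hcm⟩ ∈ LinearMap.range p₂ := ⟨_, rfl⟩
        rw [h1, Submodule.mem_bot] at h2
        exact hc0' h2
  let q₁ := LinearEquiv.ofBijective p₁ b1
  let q₂ := LinearEquiv.ofBijective p₂ b2
  refine ⟨q₁.symm.trans q₂, fun g hg v => ?_⟩
  obtain ⟨x, rfl⟩ := q₁.surjective v
  have h1 : ρ₁ g (q₁ x) = q₁ ⟨prodRep ρ₁ ρ₂ g x, (hinv hg _).1 x.2⟩ := rfl
  rw [h1, LinearEquiv.trans_apply, LinearEquiv.trans_apply, LinearEquiv.symm_apply_apply,
    LinearEquiv.symm_apply_apply]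
  rfl

end iso

end Cfsg.Agent.Omega.FOne.Lift.Sd

end

section


/-!
# Self-duality of simple modules for groups with a root group datum (helper650)

`R : RGD cs h p T n X`, `ρ` simple in characteristic `p`, `C = V^U`, `w` over the longest element.

* `OppW R w σ` : `w` exchanges `X_i` and `X_{-σ i}` and `n_i⁻¹`, `n_{σ i}` modulo `T`; `exists_oppW`;
* `Zi ρ i` : `T_i` kills `V^U`;  `Zi_dual` : `Zi (dualRep ρ) i ↔ Zi ρ (σ i)`;
* **`exists_form`** : a nonzero form `β` on `C` with `β (t c) c' = β c (w⁻¹ t⁻¹ w c')` and `Zi ρ i ↔ Zi ρ (σ i)` give a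
  nondegenerate invariant form on `V`;
* `exists_form_of_triv` : the case where `T` is trivial on `C`.
-/

set_option autoImplicit false
set_option linter.unusedSectionVars false
set_option linter.style.haveILetI false

namespace Cfsg.Agent.Omega.FOne.Lift.Sd

open CoxeterSystem Cfsg.Agent.ChevalleyStructure.CoxeterGeom Cfsg.Agent.Tits.Roots Cfsg.Agent.Tits.Core
  Cfsg.Agent.Tits.Exchange Cfsg.Agent.Nodes.Reps Cfsg.Agent.Nodes.BNOf Cfsg.Agent.Nodes.StabComb
  Cfsg.Agent.Nodes.Bruhat Cfsg.Agent.Nodes.OppDec Cfsg.Agent.Nodes.LeviDec Cfsg.Agent.KFacts.RgdOpp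
  Cfsg.Agent.Omega.CR

variable {I W Y : Type*} [Fintype I] [DecidableEq I] [Group W] [Group Y] {M : CoxeterMatrix I}
  {cs : CoxeterSystem M W} {A : I → I → ℤ} {h : IsCartan M A} {p : ℕ} {T : Subgroup Y} {n : I → Y}
  {X : (I → ℤ) → Subgroup Y}

variable {k V : Type*} [Field k] [AddCommGroup V] [Module k V]

/-- `w` exchanges `U` and `U⁻`; `σ` is the opposition on the nodes -/
structure OppW (cs : CoxeterSystem M W) (h : IsCartan M A) (T : Subgroup Y) (n : I → Y) (X : (I → ℤ) → Subgroup Y)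
    (w : Y) (σ : I → I) : Prop where
  T_le : ∀ t ∈ T, w⁻¹ * t * w ∈ T
  U_le : ∀ u ∈ UN cs h X, w⁻¹ * u * w ∈ RGD.Sup X (RGD.Pos cs h)
  U_ge : ∀ u ∈ RGD.Sup X (RGD.Pos cs h), w * u * w⁻¹ ∈ UN cs h X
  Xi : ∀ i, (X (sr i)).map (MulAut.conj w⁻¹).toMonoidHom = X (-sr (σ i))
  ni : ∀ i, ∃ t ∈ T, w⁻¹ * (n i)⁻¹ * w = n (σ i) * t

section

variable (R : RGD cs h p T n X) [Finite Y] [Finite W] [Fact p.Prime] [CharP k p]
  (ρ : Y →* Module.End k V)

/-- `T_i` kills `V^U` -/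
def Zi (cs : CoxeterSystem M W) (h : IsCartan M A) (n : I → Y) (X : (I → ℤ) → Subgroup Y)
    (ρ : Y →* Module.End k V) (i : I) : Prop := ∀ v ∈ fx ρ (RGD.Sup X (RGD.Pos cs h)), Ti n X ρ i v = 0

variable {w : Y} {σ : I → I} (O : OppW cs h T n X w σ)
include R O

/-- `ρ w` maps `V^U` onto `V^{U⁻}` -/
theorem w_mem {c : V} (hc : c ∈ fx ρ (RGD.Sup X (RGD.Pos cs h))) : ρ w c ∈ fx ρ (UN cs h X) := by
  intro u hu
  have h1 := hc _ (O.U_le u hu)
  have e : u * w = w * (w⁻¹ * u * w) := by group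
  rw [← rho_mul, e, rho_mul, h1]

theorem w_mem' {c : V} (hc : c ∈ fx ρ (UN cs h X)) : ρ w⁻¹ c ∈ fx ρ (RGD.Sup X (RGD.Pos cs h)) := by
  intro u hu
  have h1 := hc _ (O.U_ge u hu)
  have e : u * w⁻¹ = w⁻¹ * (w * u * w⁻¹) := by group
  rw [← rho_mul, e, rho_mul, h1]

/-- the transpose of `T_i` -/
theorem Ti_dual (i : I) : ∃ t ∈ T, ∀ (φ : Module.Dual k V) (c : V),
    Ti n X ((dualRep ρ :)) i φ (ρ w c) = φ (ρ w (Ti n X ρ (σ i) (ρ t c))) := by
  classical
  obtain ⟨t, ht, e⟩ := O.ni i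
  refine ⟨t, ht, fun φ c => ?_⟩
  letI := Fintype.ofFinite (X (sr i))
  have h1 : Ti n X ((dualRep ρ :)) i φ (ρ w c) = φ (ρ (n i)⁻¹ (sg ρ (X (sr i)) (ρ w c))) := by
    rw [Ti_apply, sg_def, sg_def, map_sum, map_sum, LinearMap.sum_apply]
    refine Fintype.sum_equiv (Equiv.inv (X (sr i))) _ _ fun x => ?_
    rw [dualRep_apply, dualRep_apply]
    rfl
  have h2 : sg ρ (X (sr i)) (ρ w c) = ρ w (sg ρ (X (-sr (σ i))) c) := by
    have h3 := rho_sg ρ (X (sr i)) w⁻¹ (ρ w c)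
    rw [O.Xi, rho_inv_rho] at h3
    rw [← h3, rho_rho_inv]
  have h3 : ρ (n i)⁻¹ (ρ w (sg ρ (X (-sr (σ i))) c)) = ρ w (Ti n X ρ (σ i) (ρ t c)) := by
    have e1 : (n i)⁻¹ * w = w * (n (σ i) * t) := by rw [← e]; group
    rw [← rho_mul, e1, rho_mul]
    congr 1
    have h4 := rho_sg ρ (X (-sr (σ i))) (n (σ i) * t) c
    have h5 : (X (-sr (σ i))).map (MulAut.conj (n (σ i) * t)).toMonoidHom = X (sr (σ i)) := by
      have h6 := R.conj (σ i) (-sr (σ i)) (isRoot_sr cs h (σ i)).neg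
      rw [map_neg, rep_simple_sr, neg_neg] at h6
      have h7 := R.tor (-sr (σ i)) (isRoot_sr cs h (σ i)).neg t ht
      have h8 : (MulAut.conj (n (σ i) * t)).toMonoidHom =
          ((MulAut.conj (n (σ i))).toMonoidHom).comp (MulAut.conj t).toMonoidHom := by
        rw [map_mul]; rfl
      rw [h8, ← Subgroup.map_map]
      exact (congrArg (cj (n (σ i))) h7).trans h6
    rw [h5] at h4
    rw [h4, Ti_apply, ← rho_mul]
  rw [h1, h2, h3]

variable [FiniteDimensional k V] [Nontrivial V]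
  (hirr : ∀ L : Submodule k V, Ivt ρ (GG cs h T X) L → L = ⊥ ∨ L = ⊤)
include hirr

omit O in
/-- the opposite datum -/
theorem hirr_opp : ∀ L : Submodule k V, Ivt ρ (GG cs h T (fun x => X (-x))) L → L = ⊥ ∨ L = ⊤ := by
  rw [GG_opp]
  exact hirr

omit O in
/-- a `U`-fixed functional which is zero on `V^{U⁻}` is zero -/
theorem eq_zero_of_opp {φ : Module.Dual k V} (hφ : φ ∈ fx ((dualRep ρ :)) (RGD.Sup X (RGD.Pos cs h)))
    (h0 : ∀ v ∈ fx ρ (UN cs h X), φ v = 0) : φ = 0 := by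
  refine eq_zero_of_fx (opp R) ρ (hirr_opp R ρ hirr) ?_ ?_
  · rw [UN_opp]; exact hφ
  · rw [U_opp]; exact h0

theorem Zi_dual (i : I) : Zi cs h n X ((dualRep ρ :)) i ↔ Zi cs h n X ρ (σ i) := by
  obtain ⟨t, ht, e⟩ := Ti_dual R ρ O i
  have hT : Ivt ρ T (fx ρ (RGD.Sup X (RGD.Pos cs h))) := (simp_fx R ρ hirr).inv
  constructor
  · intro h0 c hc
    by_contra hne
    -- apply it to `t⁻¹ c`
    have h1 : Ti n X ρ (σ i) (ρ t (ρ t⁻¹ c)) ≠ 0 := by rwa [rho_rho_inv]
    have h2 : ρ w (Ti n X ρ (σ i) (ρ t (ρ t⁻¹ c))) ∈ fx ρ (UN cs h X) :=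
      w_mem R ρ O (Ti_fix R ρ (by rw [rho_rho_inv]; exact hc) (σ i))
    obtain ⟨φ, hφ, hφ0⟩ := exists_pair (opp R) ρ (hirr_opp R ρ hirr) (by rw [U_opp]; exact h2)
      (rho_ne_zero ρ w h1)
    rw [UN_opp] at hφ
    apply hφ0
    rw [← e φ (ρ t⁻¹ c), h0 φ hφ, LinearMap.zero_apply]
  · intro h0 φ hφ
    refine eq_zero_of_opp R ρ hirr (Ti_fix R ((dualRep ρ :)) hφ i) fun v hv => ?_
    have h1 : v = ρ w (ρ w⁻¹ v) := (rho_rho_inv ρ w v).symm
    rw [h1, e φ (ρ w⁻¹ v), h0 _ (hT t ht _ (w_mem' R ρ O hv)), map_zero, map_zero]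

/-- **An invariant form.** -/
theorem exists_form (hZ : ∀ i, Zi cs h n X ρ i ↔ Zi cs h n X ρ (σ i))
    (β : fx ρ (RGD.Sup X (RGD.Pos cs h)) →ₗ[k] fx ρ (RGD.Sup X (RGD.Pos cs h)) →ₗ[k] k) (hβ0 : β ≠ 0)
    (hβ : ∀ t ∈ T, ∀ (c tc c' tc' : fx ρ (RGD.Sup X (RGD.Pos cs h))), (tc : V) = ρ t c →
      (tc' : V) = ρ (w⁻¹ * t⁻¹ * w) c' → β tc c' = β c tc') :
    ∃ b : LinearMap.BilinForm k V, (∀ g ∈ GG cs h T X, ∀ u v, b (ρ g u) (ρ g v) = b u v) ∧
      (∀ u, (∀ v, b u v = 0) → u = 0) ∧ ∀ v, (∀ u, b u v = 0) → v = 0 := by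
  -- the isomorphism `V^U → V^{U⁻}`
  have hTC : Ivt ρ T (fx ρ (RGD.Sup X (RGD.Pos cs h))) := (simp_fx R ρ hirr).inv
  have hopp : ∀ v ∈ fx ρ (RGD.Sup (fun x => X (-x)) (RGD.Pos cs h)), v ∈ fx ρ (UN cs h X) := fun v hv b hb =>
    hv b (by rw [U_opp]; exact hb)
  have hopp' : ∀ v ∈ fx ρ (UN cs h X), v ∈ fx ρ (RGD.Sup (fun x => X (-x)) (RGD.Pos cs h)) := fun v hv b hb =>
    hv b (by rw [U_opp] at hb; exact hb)
  have key : ∀ c : fx ρ (RGD.Sup X (RGD.Pos cs h)), ∃ φ : fx ((dualRep ρ :)) (RGD.Sup X (RGD.Pos cs h)), ∀ c' : fx ρ (RGD.Sup X (RGD.Pos cs h)),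
      (φ : Module.Dual k V) (ρ w c') = β c c' := by
    intro c
    -- a functional on `V^{U⁻}`
    let ψ : fx ρ (RGD.Sup (fun x => X (-x)) (RGD.Pos cs h)) →ₗ[k] k :=
      { toFun := fun v => β c ⟨ρ w⁻¹ v, w_mem' R ρ O (hopp v v.2)⟩
        map_add' := fun u v => by
          rw [← map_add]
          congr 1
          exact Subtype.ext (map_add _ _ _)
        map_smul' := fun a v => by
          rw [RingHom.id_apply, ← map_smul]
          congr 1
          exact Subtype.ext (map_smul _ _ _) }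
    obtain ⟨φ, hφ, h1⟩ := pair_surj (opp R) ρ (hirr_opp R ρ hirr) ψ
    rw [UN_opp] at hφ
    refine ⟨⟨φ, hφ⟩, fun c' => ?_⟩
    have h2 := h1 ⟨ρ w c', hopp' _ (w_mem R ρ O c'.2)⟩
    change φ (ρ w c') = _
    rw [show φ (ρ w c') = ψ ⟨ρ w c', _⟩ from h2]
    change β c _ = β c c'
    congr 1
    exact Subtype.ext (rho_inv_rho ρ w c')
  choose τ₀ hτ₀ using key
  have uniq : ∀ φ φ' : fx ((dualRep ρ :)) (RGD.Sup X (RGD.Pos cs h)),
      (∀ c' : fx ρ (RGD.Sup X (RGD.Pos cs h)), (φ : Module.Dual k V) (ρ w c') = (φ' : Module.Dual k V) (ρ w c')) → φ = φ' := by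
    intro φ φ' h1
    apply Subtype.ext
    rw [← sub_eq_zero]
    refine eq_zero_of_opp R ρ hirr (Submodule.sub_mem _ φ.2 φ'.2) fun v hv => ?_
    have h2 := h1 ⟨ρ w⁻¹ v, w_mem' R ρ O hv⟩
    rw [LinearMap.sub_apply, sub_eq_zero]
    change (φ : Module.Dual k V) (ρ w (ρ w⁻¹ v)) = (φ' : Module.Dual k V) (ρ w (ρ w⁻¹ v)) at h2
    rwa [rho_rho_inv] at h2
  let τ : fx ρ (RGD.Sup X (RGD.Pos cs h)) →ₗ[k] fx ((dualRep ρ :)) (RGD.Sup X (RGD.Pos cs h)) :=
    { toFun := τ₀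
      map_add' := fun c d => uniq _ _ fun c' => by
        rw [hτ₀, map_add, LinearMap.add_apply, Submodule.coe_add, LinearMap.add_apply, hτ₀, hτ₀]
      map_smul' := fun a c => uniq _ _ fun c' => by
        rw [hτ₀, map_smul, LinearMap.smul_apply, RingHom.id_apply, Submodule.coe_smul, LinearMap.smul_apply, hτ₀] }
  have hτ : ∀ c c' : fx ρ (RGD.Sup X (RGD.Pos cs h)), ((τ c : fx ((dualRep ρ :)) (RGD.Sup X (RGD.Pos cs h))) : Module.Dual k V) (ρ w c') = β c c' := hτ₀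
  have hτ0 : τ ≠ 0 := by
    intro h0
    apply hβ0
    ext c c'
    rw [← hτ c c', h0]
    rfl
  obtain ⟨θ, hθ⟩ := exists_iso R ρ (dualRep ρ) hirr (dual_irr ρ hirr) τ hτ0 (by
    intro t ht v v' hv'
    have h1 : (⟨dualRep ρ t (τ v), fun u hu => by
        have h2 : t⁻¹ * u * t ∈ RGD.Sup X (RGD.Pos cs h) := by
          have h3 := R.T_le_normalizer_U (inv_mem ht)
          have h4 := (Subgroup.mem_normalizer_iff.1 h3 u).1 hu
          rwa [inv_inv] at h4
        have e : u * t = t * (t⁻¹ * u * t) := by group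
        rw [← rho_mul, e, rho_mul, (τ v).2 _ h2]⟩ : fx ((dualRep ρ :)) (RGD.Sup X (RGD.Pos cs h))) = τ v' := by
      refine uniq _ _ fun c' => ?_
      have h5 : w⁻¹ * t⁻¹ * w ∈ T := O.T_le _ (inv_mem ht)
      rw [hτ v' c', hβ t ht v v' c' ⟨ρ (w⁻¹ * t⁻¹ * w) c', hTC _ h5 _ c'.2⟩ hv' rfl, ← hτ]
      change (τ v : Module.Dual k V) (ρ t⁻¹ (ρ w c')) = (τ v : Module.Dual k V) (ρ w (ρ (w⁻¹ * t⁻¹ * w) c'))
      rw [← rho_mul, ← rho_mul]
      congr 3
      group
    rw [← h1]) (fun i => by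
      have h1 := Zi_dual R ρ O hirr i
      exact (hZ i).trans h1.symm)
  refine ⟨θ.toLinearMap, ?_, ?_, ?_⟩
  · intro g hg u v
    change θ (ρ g u) (ρ g v) = θ u v
    rw [hθ g hg, dualRep_apply, rho_inv_rho]
  · intro u hu
    have h1 : θ u = 0 := LinearMap.ext hu
    exact (map_eq_zero_iff θ θ.injective).1 h1
  · intro v hv
    by_contra hv0
    obtain ⟨φ, hφ⟩ := (Module.forall_dual_apply_eq_zero_iff k v).not.2 hv0 |> not_forall.1
    obtain ⟨u, rfl⟩ := θ.surjective φ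
    exact hφ (hv u)

end

end Cfsg.Agent.Omega.FOne.Lift.Sd

end

section


/-!
# A complement avoiding a vector (OMEGA, (6''); helper115)

`K ⊴ X` acts on the finite group `M` of exponent two, `M` irreducible for `X`.

* `Inv K L` : `L ≤ M` is `K`-invariant;
* **`exists_irr`** : for `v ≠ 1` there are `K`-invariant `N`, `C` with `M = N × C`, `N` minimal, `v ∉ C`;
* `fix_left`, `fix_right` : an element of `K` fixing `n * c` fixes `n` and `c`.
-/

set_option autoImplicit false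
set_option linter.unusedSectionVars false

namespace Cfsg.Agent.Omega.FOne.Lift

open Subgroup

variable {X : Type*} [Group X] {M : Type*} [Group M] [MulDistribMulAction X M] {K : Subgroup X}

/-- `L` is `K`-invariant -/
def Inv (K : Subgroup X) (L : Subgroup M) : Prop := ∀ k ∈ K, ∀ m ∈ L, k • m ∈ L

theorem Inv.bot : Inv K (⊥ : Subgroup M) := by
  intro k _ m hm
  rw [mem_bot] at hm ⊢
  rw [hm, smul_one]

theorem Inv.inf {L L' : Subgroup M} (h : Inv K L) (h' : Inv K L') : Inv K (L ⊓ L') :=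
  fun k hk m hm => ⟨h k hk m hm.1, h' k hk m hm.2⟩

/-- minimal `K`-invariant -/
structure Mini (K : Subgroup X) (N : Subgroup M) : Prop where
  inv : Inv K N
  ne : N ≠ ⊥
  min : ∀ L : Subgroup M, L ≤ N → Inv K L → L = ⊥ ∨ L = N

theorem mul_comm_of_sq {M : Type*} [Group M] (sq : ∀ m : M, m * m = 1) (a b : M) : a * b = b * a := by
  have h1 : ∀ z : M, z⁻¹ = z := fun z => inv_eq_of_mul_eq_one_right (sq z)
  calc a * b = (a * b)⁻¹ := (h1 _).symm
    _ = b⁻¹ * a⁻¹ := mul_inv_rev _ _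
    _ = b * a := by rw [h1, h1]

theorem mem_sup_of_sq {M : Type*} [Group M] (sq : ∀ m : M, m * m = 1) {L L' : Subgroup M} {m : M} :
    m ∈ L ⊔ L' ↔ ∃ a ∈ L, ∃ b ∈ L', a * b = m := by
  have : L.Normal := ⟨fun n hn g => by rwa [mul_comm_of_sq sq g n, mul_inv_cancel_right]⟩
  exact Subgroup.mem_sup_of_normal_left

theorem Inv.sup (sq : ∀ m : M, m * m = 1) {L L' : Subgroup M} (h : Inv K L) (h' : Inv K L') : Inv K (L ⊔ L') := by
  intro k hk m hm
  obtain ⟨a, ha, b, hb, rfl⟩ := (mem_sup_of_sq sq).1 hm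
  rw [smul_mul']
  exact (mem_sup_of_sq sq).2 ⟨_, h k hk a ha, _, h' k hk b hb, rfl⟩

/-- the image under an element of `X` -/
def tr (x : X) (L : Subgroup M) : Subgroup M := L.map (MulDistribMulAction.toMonoidHom M x)

theorem mem_tr {x : X} {L : Subgroup M} {m : M} : m ∈ tr x L ↔ ∃ l ∈ L, x • l = m := Iff.rfl

theorem mem_tr' {x : X} {L : Subgroup M} {m : M} : m ∈ tr x L ↔ x⁻¹ • m ∈ L := by
  rw [mem_tr]
  constructor
  · rintro ⟨l, hl, rfl⟩
    rwa [inv_smul_smul]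
  · intro h
    exact ⟨_, h, smul_inv_smul x m⟩

theorem Inv.tr (hK : K.Normal) {L : Subgroup M} (h : Inv K L) (x : X) : Inv K (tr x L) := by
  intro k hk m hm
  rw [mem_tr'] at hm ⊢
  have h1 := h _ (hK.conj_mem k hk x⁻¹) _ hm
  rw [inv_inv, ← mul_smul] at h1
  rw [← mul_smul]
  have e : x⁻¹ * k * x * x⁻¹ = x⁻¹ * k := by group
  rwa [e] at h1

theorem Mini.tr (hK : K.Normal) {N : Subgroup M} (h : Mini K N) (x : X) : Mini K (tr x N) where
  inv := h.inv.tr hK x
  ne := by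
    intro h0
    apply h.ne
    rw [eq_bot_iff]
    intro n hn
    have h1 : x • n ∈ Lift.tr x N := ⟨n, hn, rfl⟩
    rw [h0, mem_bot] at h1
    rw [mem_bot, ← inv_smul_smul x n, h1, smul_one]
  min := by
    intro L hL hLi
    have h1 := h.min (Lift.tr x⁻¹ L) (by
      intro m hm
      rw [mem_tr', inv_inv] at hm
      have := mem_tr'.1 (hL hm)
      rwa [inv_smul_smul] at this) (hLi.tr hK x⁻¹)
    rcases h1 with h1 | h1
    · left
      rw [eq_bot_iff]
      intro m hm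
      have h2 : x⁻¹ • m ∈ Lift.tr x⁻¹ L := ⟨m, hm, rfl⟩
      rw [h1, mem_bot] at h2
      rw [mem_bot, ← smul_inv_smul x m, h2, smul_one]
    · right
      refine le_antisymm hL ?_
      intro m hm
      rw [mem_tr', ← h1, mem_tr', inv_inv, smul_inv_smul] at hm
      exact hm

/-- a nontrivial `K`-invariant subgroup contains a minimal one -/
theorem exists_mini [Finite M] {L : Subgroup M} (h : Inv K L) (h0 : L ≠ ⊥) : ∃ N ≤ L, Mini K N := by
  have hfin : {N : Subgroup M | Inv K N ∧ N ≠ ⊥ ∧ N ≤ L}.Finite := Set.toFinite _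
  obtain ⟨N, hN⟩ := hfin.exists_minimal ⟨L, h, h0, le_rfl⟩
  refine ⟨N, hN.1.2.2, hN.1.1, hN.1.2.1, fun L' hL' hi => ?_⟩
  by_cases h1 : L' = ⊥
  · exact Or.inl h1
  · right
    exact le_antisymm hL' (hN.2 ⟨hi, h1, hL'.trans hN.1.2.2⟩ hL')

/-- **A complement avoiding a vector.** -/
theorem exists_irr [Finite M] (hK : K.Normal) (sq : ∀ m : M, m * m = 1)
    (irr : ∀ L : Subgroup M, (∀ x : X, ∀ m ∈ L, x • m ∈ L) → L = ⊥ ∨ L = ⊤) {v : M} (hv : v ≠ 1) :
    ∃ N C : Subgroup M, Mini K N ∧ Inv K C ∧ v ∉ C ∧ N ⊓ C = ⊥ ∧ N ⊔ C = ⊤ := by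
  -- the minimal subgroups generate
  have hsoc : ∀ C : Subgroup M, C ≠ ⊤ → ∃ N : Subgroup M, Mini K N ∧ ¬ N ≤ C := by
    intro C hC
    by_contra hcon
    push Not at hcon
    set S : Subgroup M := sSup {N | Mini K N} with hS
    have hSi : ∀ x : X, ∀ m ∈ S, x • m ∈ S := by
      intro x
      have h1 : S ≤ tr x⁻¹ S := by
        rw [hS]
        refine sSup_le fun N hN => ?_
        intro m hm
        rw [mem_tr', inv_inv]
        have h2 : tr x N ≤ sSup {N | Mini K N} := le_sSup (Mini.tr hK hN x)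
        exact h2 ⟨m, hm, rfl⟩
      intro m hm
      have := mem_tr'.1 (h1 hm)
      rwa [inv_inv] at this
    rcases irr S hSi with h1 | h1
    · have h2 : (⊤ : Subgroup M) ≠ ⊥ := fun h3 => hv (mem_bot.1 (h3 ▸ mem_top v))
      obtain ⟨N, -, hN⟩ := exists_mini (K := K) (L := (⊤ : Subgroup M)) (fun _ _ _ _ => mem_top _) h2
      apply hN.ne
      rw [eq_bot_iff, ← h1]
      exact le_sSup hN
    · apply hC
      rw [eq_top_iff, ← h1]
      exact sSup_le fun N hN => hcon N hN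
  -- a maximal invariant subgroup avoiding `v`
  have hfin : {C : Subgroup M | Inv K C ∧ v ∉ C}.Finite := Set.toFinite _
  obtain ⟨C, hC⟩ := hfin.exists_maximal ⟨⊥, Inv.bot, fun h => hv (mem_bot.1 h)⟩
  have hmax : ∀ L : Subgroup M, Inv K L → ¬ L ≤ C → v ∈ C ⊔ L := by
    intro L hL hLC
    by_contra h1
    exact hLC (le_sup_right.trans (hC.2 ⟨hC.1.1.sup sq hL, h1⟩ le_sup_left))
  have hCt : C ≠ ⊤ := fun h => hC.1.2 (h ▸ mem_top v)
  obtain ⟨N, hN, hNC⟩ := hsoc C hCt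
  have hNC' : N ⊓ C = ⊥ := by
    rcases hN.min _ inf_le_left (hN.inv.inf hC.1.1) with h1 | h1
    · exact h1
    · exact absurd (inf_eq_left.1 h1) hNC
  refine ⟨N, C, hN, hC.1.1, hC.1.2, hNC', ?_⟩
  by_contra htop
  obtain ⟨N', hN', hN'C⟩ := hsoc _ htop
  have h1 : N' ⊓ (N ⊔ C) = ⊥ := by
    rcases hN'.min _ inf_le_left (hN'.inv.inf (hN.inv.sup sq hC.1.1)) with h1 | h1
    · exact h1
    · exact absurd (inf_eq_left.1 h1) hN'C
  obtain ⟨c, hc, n, hn, e⟩ := (mem_sup_of_sq sq).1 (hmax N hN.inv hNC)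
  obtain ⟨c', hc', n', hn', e'⟩ := (mem_sup_of_sq sq).1 (hmax N' hN'.inv fun h => hN'C (h.trans le_sup_right))
  have h2 : n' = n * (c'⁻¹ * c) := by
    rw [← e] at e'
    rw [mul_comm_of_sq sq n, mul_assoc, ← e', inv_mul_cancel_left]
  have h3 : n' ∈ N' ⊓ (N ⊔ C) := by
    refine ⟨hn', ?_⟩
    rw [h2]
    exact mul_mem (le_sup_left (α := Subgroup M) hn) (le_sup_right (α := Subgroup M) (mul_mem (inv_mem hc') hc))
  rw [h1, mem_bot] at h3
  apply hC.1.2
  rw [← e', h3, mul_one]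
  exact hc'

section dec

variable {N C : Subgroup M} (hN : Inv K N) (hC : Inv K C) (hNC : N ⊓ C = ⊥)

include hN hC hNC

theorem eq_of_mul {n n' c c' : M} (hn : n ∈ N) (hn' : n' ∈ N) (hc : c ∈ C) (hc' : c' ∈ C) (h : n * c = n' * c') :
    n = n' ∧ c = c' := by
  have h1 : n'⁻¹ * n = c' * c⁻¹ := by
    rw [eq_mul_inv_iff_mul_eq, mul_assoc, h, inv_mul_cancel_left]
  have h2 : n'⁻¹ * n ∈ N ⊓ C := by
    refine Subgroup.mem_inf.2 ⟨N.mul_mem (N.inv_mem hn') hn, ?_⟩
    rw [h1]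
    exact C.mul_mem hc' (C.inv_mem hc)
  rw [hNC, mem_bot] at h2
  have h3 : n = n' := (inv_mul_eq_one.1 h2).symm
  subst h3
  exact ⟨rfl, mul_left_cancel h⟩

theorem fix_left {k : X} (hk : k ∈ K) {n c : M} (hn : n ∈ N) (hc : c ∈ C) (h : k • (n * c) = n * c) : k • n = n := by
  rw [smul_mul'] at h
  exact (eq_of_mul hN hC hNC (hN k hk n hn) hn (hC k hk c hc) hc h).1

end dec

end Cfsg.Agent.Omega.FOne.Lift

end

section


/-!
# The `U`-fixed vectors of an irreducible module, trivial torus (OMEGA, (6''); helper115)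

`K ≤ X` acts on the group `M` of exponent two; `R` a root group datum in `K` with trivial torus which generates `K`.

* **`eq_of_fixed`** (Curtis, Richen) : `N ≤ M` minimal `K`-invariant: at most one element `≠ 1` of `N` is fixed by `U`.
-/

set_option autoImplicit false
set_option linter.unusedSectionVars false

namespace Cfsg.Agent.Omega.FOne.Lift

open CoxeterSystem Cfsg.Agent.ChevalleyStructure.CoxeterGeom Cfsg.Agent.Tits.Roots Cfsg.Agent.Tits.Core
  Cfsg.Agent.Tits.RootComb Cfsg.Agent.Nodes.Comb Cfsg.Agent.Nodes.Reps Cfsg.Agent.Nodes.BNOf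
  Cfsg.Agent.Nodes.Bruhat
open Cfsg.Agent.Omega.CR

variable {X : Type*} [Group X] {M : Type*} [Group M] [MulDistribMulAction X M] {K : Subgroup X}

/-- the commutative group `N` -/
@[reducible] def cg (sq : ∀ m : M, m * m = 1) (N : Subgroup M) : CommGroup N :=
  { (inferInstance : Group N) with mul_comm := fun a b => Subtype.ext (mul_comm_of_sq sq a b) }

section

variable {N : Subgroup M} (hN : Inv K N)

/-- the action of `K` on `N` -/
@[reducible] def actN : SMul K N := ⟨fun k n => ⟨(k : X) • (n : M), hN k k.2 n n.2⟩⟩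

end

variable {I Wy : Type*} [Fintype I] [DecidableEq I] [Group Wy] {Mx : CoxeterMatrix I}
  {cs : CoxeterSystem Mx Wy} {A : I → I → ℤ} {h : IsCartan Mx A} {Tt : Subgroup K} {n : I → K}
  {Xr : (I → ℤ) → Subgroup K}

/-- **Curtis, Richen.** -/
theorem eq_of_fixed [Finite X] [Finite M] [Finite Wy] (sq : ∀ m : M, m * m = 1) {N : Subgroup M} (hN : Mini K N)
    (R : RGD cs h 2 Tt n Xr) (hG : GG cs h Tt Xr = ⊤) (hT : Tt = ⊥) {a b : M} (ha : a ∈ N) (hb : b ∈ N)
    (ha1 : a ≠ 1) (hb1 : b ≠ 1) (hau : ∀ u ∈ RGD.Sup Xr (RGD.Pos cs h), (u : X) • a = a)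
    (hbu : ∀ u ∈ RGD.Sup Xr (RGD.Pos cs h), (u : X) • b = b) : a = b := by
  have : Fact (Nat.Prime 2) := ⟨Nat.prime_two⟩
  let _ : CommGroup N := cg sq N
  let _ : DistribMulAction K (Additive N) :=
    { smul := fun k v => Additive.ofMul ⟨(k : X) • ((v.toMul : N) : M), hN.inv k k.2 _ v.toMul.2⟩
      one_smul := fun v => by
        apply Additive.toMul.injective
        exact Subtype.ext (one_smul X _)
      mul_smul := fun k l v => by
        apply Additive.toMul.injective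
        exact Subtype.ext (mul_smul (k : X) (l : X) _)
      smul_zero := fun k => by
        apply Additive.toMul.injective
        exact Subtype.ext (smul_one (k : X))
      smul_add := fun k v w => by
        apply Additive.toMul.injective
        exact Subtype.ext (smul_mul' (k : X) _ _) }
  have hsm : ∀ (k : K) (m : M) (hm : m ∈ N) (hm' : (k : X) • m ∈ N),
      k • (Additive.ofMul (⟨m, hm⟩ : N)) = Additive.ofMul (⟨(k : X) • m, hm'⟩ : N) := fun _ _ _ _ => rfl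
  have F : Fam (fun _ : Unit => cs) (fun _ => h) 2 Tt (fun _ => n) (fun _ => Xr) (fun _ => (⊤ : Subgroup K)) :=
    { rgd := fun _ => R
      X_le := fun _ _ _ => le_top
      n_mem := fun _ _ => Subgroup.mem_top _
      comm := fun l m hlm => absurd (Subsingleton.elim l m) hlm }
  have hUt : Ut (fun _ : Unit => cs) (fun _ => h) (fun _ => Xr) = RGD.Sup Xr (RGD.Pos cs h) := by
    unfold Ut
    exact iSup_const
  have hGt : GGt (fun _ : Unit => cs) (fun _ => h) Tt (fun _ => Xr) = ⊤ := by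
    rw [eq_top_iff, ← hG]
    exact GG_le_GGt (cs := fun _ : Unit => cs) (h := fun _ => h) (T := Tt) (X := fun _ => Xr) ()
  have hp : ∀ v : Additive N, (2 : ℕ) • v = 0 := by
    intro v
    rw [two_nsmul]
    apply Additive.toMul.injective
    exact Subtype.ext (sq _)
  have hirr : ∀ L : AddSubgroup (Additive N), (∀ g ∈ GGt (fun _ : Unit => cs) (fun _ => h) Tt (fun _ => Xr),
      ∀ v ∈ L, g • v ∈ L) → L = ⊥ ∨ L = ⊤ := by
    intro L hL
    rw [hGt] at hL
    set L' : Subgroup M := (AddSubgroup.toSubgroup' L).map N.subtype with hL'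
    have hmem : ∀ (m : M) (hm : m ∈ N), m ∈ L' ↔ Additive.ofMul (⟨m, hm⟩ : N) ∈ L := by
      intro m hm
      rw [hL', Subgroup.mem_map]
      constructor
      · rintro ⟨x, hx, rfl⟩
        exact hx
      · intro hx
        exact ⟨⟨m, hm⟩, hx, rfl⟩
    have hle : L' ≤ N := Subgroup.map_subtype_le _
    have hinv : Inv K L' := by
      intro k hk m hm
      rw [hmem _ (hN.inv k hk m (hle hm))]
      have h1 := (hmem m (hle hm)).1 hm
      exact hL ⟨k, hk⟩ (Subgroup.mem_top _) _ h1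
    rcases hN.min L' hle hinv with h1 | h1
    · left
      rw [eq_bot_iff]
      intro v hv
      have h2 : ((v.toMul : N) : M) ∈ L' := (hmem _ v.toMul.2).2 hv
      rw [h1, Subgroup.mem_bot] at h2
      rw [AddSubgroup.mem_bot]
      apply Additive.toMul.injective
      exact Subtype.ext h2
    · right
      rw [eq_top_iff]
      intro v _
      exact (hmem _ v.toMul.2).1 (by rw [h1]; exact v.toMul.2)
  set a' : Additive N := Additive.ofMul ⟨a, ha⟩ with ha'
  set b' : Additive N := Additive.ofMul ⟨b, hb⟩ with hb'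
  have ha0 : a' ≠ 0 := fun h0 => ha1 (congrArg (fun v : Additive N => ((v.toMul : N) : M)) h0)
  have hfa : ∀ u ∈ RGD.Sup Xr (RGD.Pos cs h), u • a' = a' := by
    intro u hu
    apply Additive.toMul.injective
    exact Subtype.ext (hau u hu)
  have hfb : ∀ u ∈ RGD.Sup Xr (RGD.Pos cs h), u • b' = b' := by
    intro u hu
    apply Additive.toMul.injective
    exact Subtype.ext (hbu u hu)
  have haa : a' + a' = 0 := by
    have := hp a'
    rwa [two_nsmul] at this
  have hb2 : b' ∈ AddSubgroup.zmultiples a' := by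
    refine F.act_le hp hirr (e := AddSubgroup.zmultiples a') ?_ ?_ ?_ (x := b') ?_
    · intro h0
      rw [AddSubgroup.zmultiples_eq_bot] at h0
      exact ha0 h0
    · intro u hu x hx
      rw [hUt] at hu
      obtain ⟨j, rfl⟩ := AddSubgroup.mem_zmultiples_iff.1 hx
      have h1 : u • (j • a') = j • (u • a') := map_zsmul (DistribSMul.toAddMonoidHom (Additive N) u) j a'
      rw [h1, hfa u hu]
    · intro t ht x hx
      rw [hT, Subgroup.mem_bot] at ht
      rwa [ht, one_smul]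
    · intro u hu
      rw [hUt] at hu
      exact hfb u hu
  obtain ⟨j, hj⟩ := AddSubgroup.mem_zmultiples_iff.1 hb2
  rcases Int.even_or_odd j with ⟨k, rfl⟩ | ⟨k, rfl⟩
  · exfalso
    rw [add_zsmul, ← zsmul_add, haa, zsmul_zero] at hj
    exact hb1 (congrArg (fun v : Additive N => ((v.toMul : N) : M)) hj).symm
  · rw [add_zsmul, mul_comm, mul_zsmul, two_zsmul, haa, zsmul_zero, zero_add, one_zsmul] at hj
    exact congrArg (fun v : Additive N => ((v.toMul : N) : M)) hj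

end Cfsg.Agent.Omega.FOne.Lift

end
end

-- part: Mrg/Omega/Lie/End/Top
section
prune_inst 0x110001400420000000000084010020042400019000200801d94000400006b30040000140c4003a00000822000000000001000040024000000400000040000120002a00001000a00000000000b086000000000000000000000000000000041004000000000
set_option linter.all false
open scoped Cfsg.Agent.FastGrp

-- merged: Cfsg.Agent.Mrg.Omega.Lie.End.PreMap
section

/-!
# Transport of `Pre` along homomorphisms

* `Qk_comap`, `Qk_map`;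
* `Pre.comap` (kernel a `p`-group), `Pre.map` (injective);
* `Pre.bn` : the BN-pair of `⨆ i, P i`.
-/

set_option autoImplicit false
set_option linter.unusedSectionVars false

namespace Cfsg.Agent.Omega.Lie.End

open Subgroup Cfsg.Agent.ParSys

variable {G X : Type*} [Group G] [Group X] {I : Type*}

/-! ### Kernels -/

theorem Qk_comap {φ : X →* G} {B P : Subgroup G} (hP : P ≤ φ.range) :
    Qk (B.comap φ) (P.comap φ) = (Qk B P).comap φ := by
  ext x
  rw [mem_comap, mem_Qk, mem_Qk]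
  constructor
  · intro h g hg
    obtain ⟨y, rfl⟩ := hP hg
    have h1 := h y hg
    rw [mem_comap, map_mul, map_mul, map_inv] at h1
    exact h1
  · intro h g hg
    have h1 := h (φ g) hg
    rw [mem_comap, map_mul, map_mul, map_inv]
    exact h1

theorem Qk_map {φ : G →* X} (hφ : Function.Injective φ) (B P : Subgroup G) :
    Qk (B.map φ) (P.map φ) = (Qk B P).map φ := by
  ext x
  constructor
  · intro h
    rw [mem_Qk] at h
    have h1 := h 1 (one_mem _)
    rw [inv_one, one_mul, mul_one] at h1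
    obtain ⟨y, hy, rfl⟩ := h1
    refine ⟨y, mem_Qk.mpr fun g hg => ?_, rfl⟩
    have h2 := h (φ g) (mem_map_of_mem φ hg)
    rw [← map_inv, ← map_mul, ← map_mul] at h2
    exact (mem_map_iff_mem hφ).mp h2
  · rintro ⟨y, hy, rfl⟩
    rw [mem_Qk]
    rintro _ ⟨g, hg, rfl⟩
    rw [← map_inv, ← map_mul, ← map_mul]
    exact mem_map_of_mem φ (mem_Qk.mp hy g hg)

/-! ### Galleries -/

theorem same_map {φ : X →* G} {B : Subgroup G} {t s : X} {l l' : List X} :
    Same (B.comap φ) t s l l' ↔ Same B (φ t) (φ s) (l.map φ) (l'.map φ) := by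
  induction l generalizing t s l' with
  | nil =>
    cases l' with
    | nil =>
      show t⁻¹ * s ∈ B.comap φ ↔ (φ t)⁻¹ * φ s ∈ B
      rw [mem_comap, map_mul, map_inv]
    | cons y l' => exact Iff.rfl
  | cons x l ih =>
    cases l' with
    | nil => exact Iff.rfl
    | cons y l' =>
      show (t⁻¹ * s ∈ B.comap φ ∧ Same (B.comap φ) (t * x) (s * y) l l') ↔
        ((φ t)⁻¹ * φ s ∈ B ∧ Same B (φ t * φ x) (φ s * φ y) (l.map φ) (l'.map φ))
      rw [ih, mem_comap, map_mul, map_inv, map_mul, map_mul]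

theorem galE_comap {φ : X →* G} {B : Subgroup G} {P : I → Subgroup G} {w : List I} {l : List X} :
    GalE (B.comap φ) (fun i => (P i).comap φ) w l ↔ GalE B P w (l.map φ) := by
  induction w generalizing l with
  | nil => cases l <;> exact Iff.rfl
  | cons i w ih =>
    cases l with
    | nil => exact Iff.rfl
    | cons x l => exact and_congr Iff.rfl ih

theorem exists_galE_lift {φ : X →* G} {B : Subgroup G} {P : I → Subgroup G} (hr : ∀ i, P i ≤ φ.range) {w : List I}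
    {l : List G} (h : GalE B P w l) : ∃ l₀ : List X, l₀.map φ = l := by
  induction w generalizing l with
  | nil =>
    cases l with
    | nil => exact ⟨[], rfl⟩
    | cons x l => exact h.elim
  | cons i w ih =>
    cases l with
    | nil => exact h.elim
    | cons x l =>
      obtain ⟨l₀, h0⟩ := ih h.2
      obtain ⟨y, hy⟩ := hr i h.1.1
      exact ⟨y :: l₀, by rw [List.map_cons, hy, h0]⟩

theorem polygon_comap {φ : X →* G} {B : Subgroup G} {P : I → Subgroup G} (hB : B ≤ φ.range)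
    (hr : ∀ i, P i ≤ φ.range) {a b : I} {m : ℕ} (h : _root_.Cfsg.Agent.ParSys.Polygon B P a b m) :
    _root_.Cfsg.Agent.ParSys.Polygon (B.comap φ) (fun i => (P i).comap φ) a b m := by
  have key : ∀ c d, (∀ l l', GalE B P (alt c d m) l → GalE B P (alt c d m) l' → l.prod⁻¹ * l'.prod ∈ B →
      Same B 1 1 l l') → ∀ l l', GalE (B.comap φ) (fun i => (P i).comap φ) (alt c d m) l →
      GalE (B.comap φ) (fun i => (P i).comap φ) (alt c d m) l' → l.prod⁻¹ * l'.prod ∈ B.comap φ →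
        Same (B.comap φ) 1 1 l l' := by
    intro c d h l l' hl hl' hp
    rw [same_map, map_one]
    refine h _ _ (galE_comap.mp hl) (galE_comap.mp hl') ?_
    rw [← map_list_prod, ← map_list_prod, ← map_inv, ← map_mul]
    exact hp
  have key2 : ∀ c d, (∀ l l', GalE B P (alt c d m) l → GalE B P (alt c d m) l' → ∃ y ∈ B, Same B y 1 l l') →
      ∀ l l', GalE (B.comap φ) (fun i => (P i).comap φ) (alt c d m) l →
        GalE (B.comap φ) (fun i => (P i).comap φ) (alt c d m) l' → ∃ y ∈ B.comap φ, Same (B.comap φ) y 1 l l' := by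
    intro c d h l l' hl hl'
    obtain ⟨y, hy, h1⟩ := h _ _ (galE_comap.mp hl) (galE_comap.mp hl')
    obtain ⟨y', rfl⟩ := hB hy
    refine ⟨y', hy, ?_⟩
    rw [same_map, map_one]
    exact h1
  refine ⟨key a b h.uniq, key b a h.uniq', ?_, key2 a b h.trans, key2 b a h.trans'⟩
  obtain ⟨l, l', h1, h2, h3⟩ := h.swap
  obtain ⟨l₀, rfl⟩ := exists_galE_lift hr h1
  obtain ⟨l₁, rfl⟩ := exists_galE_lift hr h2
  refine ⟨l₀, l₁, galE_comap.mpr h1, galE_comap.mpr h2, ?_⟩
  rw [← map_list_prod, ← map_list_prod, ← map_inv, ← map_mul] at h3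
  exact h3

theorem polygon_of_comap {φ : X →* G} {B : Subgroup G} {P : I → Subgroup G} (hr : ∀ i, P i ≤ φ.range) {a b : I} {m : ℕ}
    (h : _root_.Cfsg.Agent.ParSys.Polygon (B.comap φ) (fun i => (P i).comap φ) a b m) : _root_.Cfsg.Agent.ParSys.Polygon B P a b m := by
  have key : ∀ c d, (∀ l l', GalE (B.comap φ) (fun i => (P i).comap φ) (alt c d m) l →
      GalE (B.comap φ) (fun i => (P i).comap φ) (alt c d m) l' → l.prod⁻¹ * l'.prod ∈ B.comap φ →
        Same (B.comap φ) 1 1 l l') → ∀ l l', GalE B P (alt c d m) l → GalE B P (alt c d m) l' →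
        l.prod⁻¹ * l'.prod ∈ B → Same B 1 1 l l' := by
    intro c d h l l' hl hl' hp
    obtain ⟨l₀, rfl⟩ := exists_galE_lift hr hl
    obtain ⟨l₁, rfl⟩ := exists_galE_lift hr hl'
    rw [← map_list_prod, ← map_list_prod, ← map_inv, ← map_mul] at hp
    have h1 := h _ _ (galE_comap.mpr hl) (galE_comap.mpr hl') hp
    rwa [same_map, map_one] at h1
  have key2 : ∀ c d, (∀ l l', GalE (B.comap φ) (fun i => (P i).comap φ) (alt c d m) l →
        GalE (B.comap φ) (fun i => (P i).comap φ) (alt c d m) l' → ∃ y ∈ B.comap φ, Same (B.comap φ) y 1 l l') →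
      ∀ l l', GalE B P (alt c d m) l → GalE B P (alt c d m) l' → ∃ y ∈ B, Same B y 1 l l' := by
    intro c d h l l' hl hl'
    obtain ⟨l₀, rfl⟩ := exists_galE_lift hr hl
    obtain ⟨l₁, rfl⟩ := exists_galE_lift hr hl'
    obtain ⟨y, hy, h1⟩ := h _ _ (galE_comap.mpr hl) (galE_comap.mpr hl')
    refine ⟨φ y, hy, ?_⟩
    rwa [same_map, map_one] at h1
  refine ⟨key a b h.uniq, key b a h.uniq', ?_, key2 a b h.trans, key2 b a h.trans'⟩
  obtain ⟨l, l', h1, h2, h3⟩ := h.swap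
  refine ⟨l.map φ, l'.map φ, galE_comap.mp h1, galE_comap.mp h2, ?_⟩
  rw [← map_list_prod, ← map_list_prod, ← map_inv, ← map_mul]
  exact h3

/-! ### Elements of order prime to `p` -/

/-- a `p'`-element lifts to a `p'`-element if the kernel is a `p`-group -/
theorem exists_lift_coprime {p : ℕ} [Fact p.Prime] {φ : X →* G} (hker : IsPGroup p φ.ker) {b : G}
    (hb : b ∈ φ.range) {k : ℕ} (hk : p.Coprime k) (hbk : b ^ k = 1) :
    ∃ c : X, φ c = b ∧ c ^ k = 1 := by
  obtain ⟨b', rfl⟩ := hb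
  have h1 : b' ^ k ∈ φ.ker := by rw [MonoidHom.mem_ker, map_pow]; exact hbk
  obtain ⟨a, ha⟩ := hker ⟨_, h1⟩
  have ha' : (b' ^ k) ^ p ^ a = 1 := congrArg Subtype.val ha
  have hc : Nat.Coprime (p ^ a) (orderOf (φ b')) :=
    Nat.Coprime.coprime_dvd_right (orderOf_dvd_of_pow_eq_one hbk) (Nat.Coprime.pow_left a hk)
  obtain ⟨s, hs⟩ := exists_pow_eq_self_of_coprime hc
  refine ⟨(b' ^ p ^ a) ^ s, by rw [map_pow, map_pow, hs], ?_⟩
  calc ((b' ^ p ^ a) ^ s) ^ k = ((b' ^ k) ^ p ^ a) ^ s := by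
        rw [← pow_mul, ← pow_mul, ← pow_mul, ← pow_mul]
        congr 1
        ring
    _ = 1 := by rw [ha', one_pow]

/-! ### Transport -/

namespace Pre

variable {p : ℕ} {B U : Subgroup G} {P : I → Subgroup G} {m : I → I → ℕ}

theorem comap [hp : Fact p.Prime] {φ : X →* G} (D : Pre p B U P m) (hker : IsPGroup p φ.ker) (hB : B ≤ φ.range)
    (hr : ∀ i, P i ≤ φ.range) : Pre p (B.comap φ) (U.comap φ) (fun i => (P i).comap φ) m where
  U_le := comap_mono D.U_le
  norm := by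
    intro x hx
    have h1 : φ x ∈ normalizer (U : Set G) := D.norm hx
    rw [mem_normalizer_iff] at h1 ⊢
    intro y
    rw [mem_comap, mem_comap, map_mul, map_mul, map_inv]
    exact h1 (φ y)
  isP := D.isP.comap_of_ker_isPGroup φ hker
  index := by
    rw [relIndex_comap, map_comap_eq_self hB]
    exact D.index
  le := fun i => comap_mono (D.le i)
  three := fun i => by
    obtain ⟨x, hx, y, hy, h1, h2, h3⟩ := D.three i
    obtain ⟨x, rfl⟩ := hr i hx
    obtain ⟨y, rfl⟩ := hr i hy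
    exact ⟨x, hx, y, hy, h1, h2, by rwa [mem_comap, map_mul, map_inv]⟩
  ptr := fun i g hg hgB g' hg' hgB' => by
    obtain ⟨u, hu, b, hb, h⟩ := D.ptr i (φ g) hg hgB (φ g') hg' hgB'
    obtain ⟨u, rfl⟩ := hB (D.U_le hu)
    refine ⟨u, hu, g⁻¹ * u⁻¹ * g', ?_, by group⟩
    rw [mem_comap, map_mul, map_mul, map_inv, map_inv, h]
    have e : (φ g)⁻¹ * (φ u)⁻¹ * (φ u * φ g * b) = b := by group
    rwa [e]
  reg := fun i u hu g hg hgB h => by
    rw [Qk_comap (hr i)]
    rw [mem_comap, map_mul, map_mul, map_inv] at h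
    exact D.reg i (φ u) hu (φ g) hg hgB h
  fpf := fun i => by
    obtain ⟨b, hb, ⟨k, hk, hbk⟩, h⟩ := D.fpf i
    obtain ⟨c, rfl, hck⟩ := exists_lift_coprime hker (hB hb) hk hbk
    refine ⟨c, hb, ⟨k, hk, hck⟩, fun u hu h1 => ?_⟩
    rw [Qk_comap (hr i)] at h1 ⊢
    rw [mem_comap, map_mul, map_mul, map_mul, map_inv, map_inv] at h1
    exact h (φ u) hu h1
  m_two := D.m_two
  m_symm := D.m_symm
  poly := fun i j hij => polygon_comap hB hr (D.poly i j hij)
  sep := fun i j hij => by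
    have key : ∀ i j, SepG p B U (P i) (P j) → SepG p (B.comap φ) (U.comap φ) ((P i).comap φ) ((P j).comap φ) := by
      rintro i j ⟨b, hb, ⟨k, hk, hbk⟩, h, h'⟩
      obtain ⟨c, rfl, hck⟩ := exists_lift_coprime hker (hB hb) hk hbk
      refine ⟨c, hb, ⟨k, hk, hck⟩, fun u hu => ?_, fun u hu h1 => ?_⟩
      · rw [Qk_comap (hr i), mem_comap, map_mul, map_mul, map_mul, map_inv, map_inv]
        exact h (φ u) hu
      · rw [Qk_comap (hr j)] at h1 ⊢
        rw [mem_comap, map_mul, map_mul, map_mul, map_inv, map_inv] at h1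
        exact h' (φ u) hu h1
    exact (D.sep i j hij).imp (key i j) (key j i)
  frat := fun i j hij Y hY h u hu => by
    have h1 := D.frat i j hij (Y.map φ) (by
      rintro _ ⟨y, hy, rfl⟩
      exact hY hy) (by
      intro v hv
      obtain ⟨v, rfl⟩ := hB (D.U_le hv)
      obtain ⟨x, hx, h2, h3⟩ := h v hv
      rw [Qk_comap (hr i), mem_comap, map_mul, map_inv] at h2
      rw [Qk_comap (hr j), mem_comap, map_mul, map_inv] at h3
      exact ⟨φ x, mem_map_of_mem φ hx, h2, h3⟩) (φ u) hu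
    obtain ⟨_, ⟨x, hx, rfl⟩, h2⟩ := h1
    refine ⟨x, hx, ?_⟩
    have e : (P i).comap φ ⊔ (P j).comap φ = (P i ⊔ P j).comap φ :=
      comap_sup_eq_of_le_range φ (hr i) (hr j)
    show x⁻¹ * u ∈ Qk (B.comap φ) ((P i).comap φ ⊔ (P j).comap φ)
    rw [e, Qk_comap (sup_le (hr i) (hr j)), mem_comap, map_mul, map_inv]
    exact h2

theorem map {φ : G →* X} (D : Pre p B U P m) (hφ : Function.Injective φ) :
    Pre p (B.map φ) (U.map φ) (fun i => (P i).map φ) m where
  U_le := map_mono D.U_le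
  norm := by
    rintro _ ⟨x, hx, rfl⟩
    have h1 : x ∈ normalizer (U : Set G) := D.norm hx
    rw [mem_normalizer_iff] at h1 ⊢
    intro y
    constructor
    · rintro ⟨u, hu, rfl⟩
      exact ⟨x * u * x⁻¹, (h1 u).mp hu, by rw [map_mul, map_mul, map_inv]⟩
    · rintro ⟨u, hu, h2⟩
      refine ⟨x⁻¹ * u * x, ?_, ?_⟩
      · have h3 := (h1 (x⁻¹ * u * x)).mpr (by
          have e : x * (x⁻¹ * u * x) * x⁻¹ = u := by group
          rwa [e])
        exact h3
      · rw [map_mul, map_mul, map_inv, h2]; group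
  isP := D.isP.map φ
  index := by
    have h1 : (U.map φ).relIndex (B.map φ) = U.relIndex B := by
      rw [← relIndex_comap, comap_map_eq_self_of_injective hφ]
    rw [h1]
    exact D.index
  le := fun i => map_mono (D.le i)
  three := fun i => by
    obtain ⟨x, hx, y, hy, h1, h2, h3⟩ := D.three i
    refine ⟨φ x, mem_map_of_mem φ hx, φ y, mem_map_of_mem φ hy, fun h => h1 ((mem_map_iff_mem hφ).mp h),
      fun h => h2 ((mem_map_iff_mem hφ).mp h), fun h => h3 ?_⟩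
    rw [← map_inv, ← map_mul] at h
    exact (mem_map_iff_mem hφ).mp h
  ptr := fun i g hg hgB g' hg' hgB' => by
    obtain ⟨g, hg, rfl⟩ := hg
    obtain ⟨g', hg', rfl⟩ := hg'
    obtain ⟨u, hu, b, hb, h⟩ := D.ptr i g hg (fun h => hgB (mem_map_of_mem φ h)) g' hg'
      (fun h => hgB' (mem_map_of_mem φ h))
    exact ⟨φ u, mem_map_of_mem φ hu, φ b, mem_map_of_mem φ hb, by rw [h, map_mul, map_mul]⟩
  reg := fun i u hu g hg hgB h => by
    obtain ⟨u, hu, rfl⟩ := hu
    obtain ⟨g, hg, rfl⟩ := hg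
    show φ u ∈ Qk (B.map φ) ((P i).map φ)
    rw [Qk_map hφ]
    rw [← map_inv, ← map_mul, ← map_mul] at h
    exact mem_map_of_mem φ (D.reg i u hu g hg (fun h' => hgB (mem_map_of_mem φ h')) ((mem_map_iff_mem hφ).mp h))
  fpf := fun i => by
    obtain ⟨b, hb, ⟨k, hk, hbk⟩, h⟩ := D.fpf i
    refine ⟨φ b, mem_map_of_mem φ hb, ⟨k, hk, by rw [← map_pow, hbk, map_one]⟩, ?_⟩
    rintro _ ⟨u, hu, rfl⟩ h1
    show φ u ∈ Qk (B.map φ) ((P i).map φ)
    rw [Qk_map hφ] at h1 ⊢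
    rw [← map_inv, ← map_inv, ← map_mul, ← map_mul, ← map_mul] at h1
    exact mem_map_of_mem φ (h u hu ((mem_map_iff_mem hφ).mp h1))
  m_two := D.m_two
  m_symm := D.m_symm
  poly := fun i j hij => by
    refine polygon_of_comap (φ := φ) (fun i => map_le_range φ (P i)) ?_
    have e1 : (B.map φ).comap φ = B := comap_map_eq_self_of_injective hφ B
    have e2 : (fun i => ((P i).map φ).comap φ) = P := funext fun i => comap_map_eq_self_of_injective hφ (P i)
    rw [e1, e2]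
    exact D.poly i j hij
  sep := fun i j hij => by
    have key : ∀ i j, SepG p B U (P i) (P j) → SepG p (B.map φ) (U.map φ) ((P i).map φ) ((P j).map φ) := by
      rintro i j ⟨b, hb, ⟨k, hk, hbk⟩, h, h'⟩
      refine ⟨φ b, mem_map_of_mem φ hb, ⟨k, hk, by rw [← map_pow, hbk, map_one]⟩, ?_, ?_⟩
      · rintro _ ⟨u, hu, rfl⟩
        rw [Qk_map hφ, ← map_inv, ← map_inv, ← map_mul, ← map_mul, ← map_mul]
        exact mem_map_of_mem φ (h u hu)
      · rintro _ ⟨u, hu, rfl⟩ h1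
        rw [Qk_map hφ] at h1 ⊢
        rw [← map_inv, ← map_inv, ← map_mul, ← map_mul, ← map_mul] at h1
        exact mem_map_of_mem φ (h' u hu ((mem_map_iff_mem hφ).mp h1))
    exact (D.sep i j hij).imp (key i j) (key j i)
  frat := fun i j hij Y hY h u hu => by
    obtain ⟨u, hu, rfl⟩ := hu
    have h1 := D.frat i j hij (Y.comap φ) (by
      intro y hy
      exact (mem_map_iff_mem hφ).mp (hY hy)) (by
      intro v hv
      obtain ⟨x, hx, h2, h3⟩ := h (φ v) (mem_map_of_mem φ hv)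
      obtain ⟨x', hx', rfl⟩ := hY hx
      refine ⟨x', hx, ?_, ?_⟩
      · change (φ x')⁻¹ * φ v ∈ Qk (B.map φ) ((P i).map φ) at h2
        rw [Qk_map hφ, ← map_inv, ← map_mul] at h2
        exact (mem_map_iff_mem hφ).mp h2
      · change (φ x')⁻¹ * φ v ∈ Qk (B.map φ) ((P j).map φ) at h3
        rw [Qk_map hφ, ← map_inv, ← map_mul] at h3
        exact (mem_map_iff_mem hφ).mp h3) u hu
    obtain ⟨x, hx, h2⟩ := h1
    refine ⟨φ x, hx, ?_⟩
    show (φ x)⁻¹ * φ u ∈ Qk (B.map φ) ((P i).map φ ⊔ (P j).map φ)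
    rw [← Subgroup.map_sup, Qk_map hφ, ← map_inv, ← map_mul]
    exact mem_map_of_mem φ h2

/-- **The BN-pair of `⨆ i, P i`.** -/
theorem bn [Finite G] [Finite I] [hp : Fact p.Prime] (D : Pre p B U P m) (h3 : 3 ≤ Nat.card I)
    (conn : ∀ J : Set I, J.Nonempty → Jᶜ.Nonempty → ∃ i ∈ J, ∃ j ∈ Jᶜ, 3 ≤ m i j) :
    ∃ Q : Cfsg.BNPair ↥(⨆ i, P i), 3 ≤ Q.rank ∧ Q.Irreducible := by
  have hne : Nonempty I := by
    by_contra h
    rw [not_nonempty_iff] at h
    rw [Nat.card_of_isEmpty] at h3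
    omega
  obtain ⟨i₀⟩ := hne
  have hP : ∀ i, P i ≤ (⨆ i, P i : Subgroup G).subtype.range := fun i => by
    rw [range_subtype]
    exact le_iSup P i
  have D' := D.comap (φ := (⨆ i, P i : Subgroup G).subtype) (by
      rw [ker_subtype]
      exact IsPGroup.of_bot) ((D.le i₀).trans (hP i₀)) hP
  refine D'.exists_bnPair ?_ h3 conn
  have e : (⨆ i, (P i).comap (⨆ i, P i : Subgroup G).subtype).map (⨆ i, P i : Subgroup G).subtype =
      (⊤ : Subgroup ↥(⨆ i, P i : Subgroup G)).map (⨆ i, P i : Subgroup G).subtype := by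
    rw [Subgroup.map_iSup, ← MonoidHom.range_eq_map, range_subtype]
    exact iSup_congr fun i => map_comap_eq_self (hP i)
  exact map_injective (subtype_injective _) e

end Pre

end Cfsg.Agent.Omega.Lie.End

end

-- merged: Cfsg.Agent.Mrg.Omega.Lie.End.Top
section

section


/-!
# NODE LIE, the END: the top level

`RealSys V R i E B U P m` : the parabolic system of the product `E` of the moved components over `B`, `U`, seen in `G`
(nodes `k : J`; `k` is *moved* if `P k` does not normalise `V`).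

`RealSys.pre0` : with the residues `(0, k)` of the moved nodes (`Res0`) the family `none ↦ P₀ = X B`, `some k ↦ P k` is a
system `Pre`.  `RealSys.gZero` : hence `GZero`, provided no conjugate `V ^ x`, `x ∈ P k`, fails to commute with `V` for all
`k` (no node of type `(γ)`).
-/

set_option autoImplicit false
set_option linter.unusedSectionVars false

namespace Cfsg.Agent.Omega.Lie.End

open Subgroup Cfsg Cfsg.Agent.Omega.BTwo Cfsg.Agent.ParSys Cfsg.Agent.Omega.Lie.Zero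

universe u v w

section defs

variable {G : Type u} [Group G] {ι : Type w}

/-- The parabolic system of the moved components in `G`. -/
structure RealSys (V : Subgroup G) (R : ι → Subgroup G) (i : ι) (E B U : Subgroup G) {J : Type} (P : J → Subgroup G)
    (m : J → J → ℕ) : Prop where
  dat : Dat V R i B U
  pre : Pre 2 B U P m
  /-- `E ≤ ⟨P k⟩` -/
  E_le : E ≤ ⨆ k, P k
  /-- `P k ≤ E T` -/
  le_E : ∀ k, P k ≤ XX V R ⊔ E
  /-- `P k` is a product with the node `0` if `k` is not moved -/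
  prod : ∀ k, P k ≤ normalizer (V : Set G) → ∃ L ≤ centralizer (V : Set G), B ≤ normalizer (L : Set G) ∧ P k = L ⊔ B
  /-- every connected component of the diagram has a moved node -/
  conn : ∀ I : Set J, I.Nonempty → (∀ k ∈ I, ∀ l ∉ I, m k l < 3) → ∃ k ∈ I, ¬ P k ≤ normalizer (V : Set G)

/-- the nodes of the complete system: `none ↦ X B` -/
def PPo (V : Subgroup G) (R : ι → Subgroup G) (B : Subgroup G) {J : Type} (P : J → Subgroup G) : Option J → Subgroup G
  | none => P0 V R B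
  | some k => P k

/-- the residue `(0, k)` -/
structure Res0 (V : Subgroup G) (R : ι → Subgroup G) (B U : Subgroup G) {J : Type} (P : J → Subgroup G) (k : J)
    (m : ℕ) : Prop where
  poly : _root_.Cfsg.Agent.ParSys.Polygon B (PPo V R B P) none (some k) m
  frat : ∀ X ≤ U, (∀ u ∈ U, ∃ x ∈ X, x⁻¹ * u ∈ Qk B (P k) ∧ x⁻¹ * u ∈ Qk B (P0 V R B)) →
    ∀ u ∈ U, ∃ x ∈ X, x⁻¹ * u ∈ Qk B (P k ⊔ P0 V R B)
  sep : SepG 2 B U (P k) (P0 V R B) ∨ SepG 2 B U (P0 V R B) (P k)

end defs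

section pre0

variable {G : Type u} [Group G] {ι : Type w} {V : Subgroup G} {R : ι → Subgroup G} {i j : ι} {F : Type v} [Field F]
  {v : F → F → G} {w1 w2 : F → G} {E B U : Subgroup G} {J : Type} {P : J → Subgroup G} {m : J → J → ℕ}

open Classical in
/-- the Coxeter numbers of the complete system -/
noncomputable def MMo (V : Subgroup G) (P : J → Subgroup G) (m : J → J → ℕ) (m0 : J → ℕ) : Option J → Option J → ℕ
  | none, none => 2
  | none, some k => if P k ≤ normalizer (V : Set G) then 2 else m0 k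
  | some k, none => if P k ≤ normalizer (V : Set G) then 2 else m0 k
  | some k, some l => m k l

theorem RealSys.pre0 [Finite G] [Finite F] [CharP F 2] (b : BT V R) (c : Coord V R i j v w1 w2)
    (hF : ∃ a : F, a ≠ 0 ∧ a ≠ 1) (D : RealSys V R i E B U P m) {m0 : J → ℕ}
    (h0 : ∀ k, ¬ P k ≤ normalizer (V : Set G) → 3 ≤ m0 k ∧ Res0 V R B U P k (m0 k)) :
    Pre 2 B U (PPo V R B P) (MMo V P m m0) := by
  have hd := D.dat
  have hp := D.pre
  have poly0 : ∀ k, _root_.Cfsg.Agent.ParSys.Polygon B (PPo V R B P) none (some k) (MMo V P m m0 none (some k)) := by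
    intro k
    by_cases hk : P k ≤ normalizer (V : Set G)
    · obtain ⟨L, hL, hBL, e⟩ := D.prod k hk
      have e2 : MMo V P m m0 none (some k) = 2 := if_pos hk
      rw [e2]
      obtain ⟨x, hx, -, -, hxB, -⟩ := hp.three k
      exact (Zero.polygon b hd (P := PPo V R B P) (k := some k) (z := none) e rfl hL hBL (hp.ptr k) ⟨x, hx, hxB⟩).symm
    · have e2 : MMo V P m m0 none (some k) = m0 k := if_neg hk
      rw [e2]
      exact (h0 k hk).2.poly
  have sep0 : ∀ k, SepG 2 B U (P k) (P0 V R B) ∨ SepG 2 B U (P0 V R B) (P k) := by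
    intro k
    by_cases hk : P k ≤ normalizer (V : Set G)
    · obtain ⟨L, hL, hBL, e⟩ := D.prod k hk
      left
      rw [e]
      exact Zero.sepG b hd c hF hL
    · exact (h0 k hk).2.sep
  have frat0 : ∀ k, ∀ X ≤ U, (∀ u ∈ U, ∃ x ∈ X, x⁻¹ * u ∈ Qk B (P k) ∧ x⁻¹ * u ∈ Qk B (P0 V R B)) →
      ∀ u ∈ U, ∃ x ∈ X, x⁻¹ * u ∈ Qk B (P k ⊔ P0 V R B) := by
    intro k X hX h
    by_cases hk : P k ≤ normalizer (V : Set G)
    · obtain ⟨L, hL, hBL, e⟩ := D.prod k hk
      rw [e] at h ⊢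
      exact Zero.frat b hd hL hBL h
    · exact (h0 k hk).2.frat X hX h
  exact {
    U_le := hp.U_le
    norm := hp.norm
    isP := hp.isP
    index := hp.index
    le := fun x => match x with
      | none => le_sup_right
      | some k => hp.le k
    three := fun x => match x with
      | none => Zero.three b hd
      | some k => hp.three k
    ptr := fun x => match x with
      | none => Zero.ptr b hd
      | some k => hp.ptr k
    reg := fun x => match x with
      | none => Zero.reg b hd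
      | some k => hp.reg k
    fpf := fun x => match x with
      | none => Zero.fpfG b hd c hF
      | some k => hp.fpf k
    m_two := by
      rintro (_ | k) (_ | l) hne
      · exact absurd rfl hne
      · by_cases hk : P l ≤ normalizer (V : Set G)
        · exact (if_pos hk : MMo V P m m0 none (some l) = 2).ge
        · have e2 : MMo V P m m0 none (some l) = m0 l := if_neg hk
          rw [e2]
          have := (h0 l hk).1
          omega
      · by_cases hk : P k ≤ normalizer (V : Set G)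
        · exact (if_pos hk : MMo V P m m0 (some k) none = 2).ge
        · have e2 : MMo V P m m0 (some k) none = m0 k := if_neg hk
          rw [e2]
          have := (h0 k hk).1
          omega
      · exact hp.m_two k l fun h => hne (congrArg some h)
    m_symm := by
      rintro (_ | k) (_ | l)
      · rfl
      · rfl
      · rfl
      · exact hp.m_symm k l
    poly := by
      rintro (_ | k) (_ | l) hne
      · exact absurd rfl hne
      · exact poly0 l
      · exact (poly0 k).symm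
      · exact (polygon_reindex (B := B) (P := PPo V R B P) (some : J → Option J)).2
          (hp.poly k l fun h => hne (congrArg some h))
    sep := by
      rintro (_ | k) (_ | l) hne
      · exact absurd rfl hne
      · exact (sep0 l).symm
      · exact sep0 k
      · exact hp.sep k l fun h => hne (congrArg some h)
    frat := by
      rintro (_ | k) (_ | l) hne X hX h
      · exact absurd rfl hne
      · have h1 := frat0 l X hX fun u hu => by
          obtain ⟨x, hx, h2, h3⟩ := h u hu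
          exact ⟨x, hx, h3, h2⟩
        rw [sup_comm] at h1
        exact h1
      · exact frat0 k X hX h
      · exact hp.frat k l (fun h => hne (congrArg some h)) X hX h }

theorem RealSys.conn0 (D : RealSys V R i E B U P m) {m0 : J → ℕ}
    (h0 : ∀ k, ¬ P k ≤ normalizer (V : Set G) → 3 ≤ m0 k) :
    ∀ I : Set (Option J), I.Nonempty → Iᶜ.Nonempty → ∃ x ∈ I, ∃ y ∈ Iᶜ, 3 ≤ MMo V P m m0 x y := by
  -- a set of nodes without `0`
  have key : ∀ I : Set J, I.Nonempty → (∃ k ∈ I, 3 ≤ MMo V P m m0 none (some k)) ∨ ∃ k ∈ I, ∃ l ∉ I, 3 ≤ m k l := by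
    intro I hI
    by_contra hcon
    rw [not_or] at hcon
    obtain ⟨h1, h2⟩ := hcon
    push Not at h1 h2
    obtain ⟨k, hk, hkV⟩ := D.conn I hI h2
    have h3 := h1 k hk
    have e2 : MMo V P m m0 none (some k) = m0 k := if_neg hkV
    have := h0 k hkV
    omega
  intro I hI hIc
  by_cases hn : none ∈ I
  · obtain ⟨y, hy⟩ := hIc
    have hne : {k | some k ∉ I}.Nonempty := by
      rcases y with _ | k
      · exact absurd hn hy
      · exact ⟨k, hy⟩
    rcases key _ hne with ⟨k, hk, h3⟩ | ⟨k, hk, l, hl, h3⟩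
    · exact ⟨none, hn, some k, hk, h3⟩
    · have hl' : some l ∈ I := by
        by_contra h
        exact hl h
      refine ⟨some l, hl', some k, hk, ?_⟩
      have e : MMo V P m m0 (some l) (some k) = m l k := rfl
      rw [e, D.pre.m_symm]
      exact h3
  · obtain ⟨y, hy⟩ := hI
    have hne : {k | some k ∈ I}.Nonempty := by
      rcases y with _ | k
      · exact absurd hy hn
      · exact ⟨k, hy⟩
    rcases key _ hne with ⟨k, hk, h3⟩ | ⟨k, hk, l, hl, h3⟩
    · exact ⟨some k, hk, none, hn, h3⟩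
    · exact ⟨some k, hk, some l, hl, h3⟩

theorem RealSys.iSup_eq (D : RealSys V R i E B U P m) (hne : Nonempty J) : ⨆ x, PPo V R B P x = XX V R ⊔ E := by
  have hB : B ≤ XX V R ⊔ E := (D.pre.le hne.some).trans (D.le_E _)
  apply le_antisymm
  · refine iSup_le fun x => ?_
    rcases x with _ | k
    · exact sup_le le_sup_left hB
    · exact D.le_E k
  · refine sup_le (le_sup_left.trans (le_iSup (PPo V R B P) none)) (D.E_le.trans (iSup_le fun k => ?_))
    exact le_iSup (PPo V R B P) (some k)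

end pre0

/-! ### type `(γ)` and the rank -/

section rank

variable {G : Type u} [Group G]

/-- some `V ^ p`, `p ∈ Q`, does not commute with `V` -/
def GamT (V Q : Subgroup G) : Prop := ∃ p ∈ Q, ∃ x ∈ V, ∃ y ∈ V, p * x * p⁻¹ * y ≠ y * (p * x * p⁻¹)

end rank

section hasBN

variable {G : Type u} [Group G] {ι : Type w} {V : Subgroup G} {R : ι → Subgroup G} {i j : ι} {F : Type v} [Field F]
  {v : F → F → G} {w1 w2 : F → G} {E B U : Subgroup G} {J : Type} {P : J → Subgroup G} {m : J → J → ℕ}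

/-- `V ^ e` does not commute with `V` for some `e ∈ E`, if `N(R i) = E (N(R i) ∩ N(V))` -/
theorem gamT_of_frat [Finite G] (b : BT V R) (hij : i ≠ j)
    (hfr : ∀ x ∈ normalizer (R i : Set G), ∃ e ∈ E, e * x ∈ normalizer (V : Set G)) {Q : Subgroup G} (hQ : E ≤ Q) :
    GamT V Q := by
  by_contra hcon
  unfold GamT at hcon
  push Not at hcon
  have h1 : WW V (R i) ≤ centralizer (V : Set G) := by
    refine iSup_le fun x => ?_
    obtain ⟨e, he, hex⟩ := hfr x x.2
    intro y hy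
    obtain ⟨a, ha, rfl⟩ := hy
    rw [mem_centralizer_iff]
    intro z hz
    have h2 : (e * x) * a * (e * x)⁻¹ ∈ V := BTwo.conj_mem_of_normalizer hex ha
    have h3 := hcon e⁻¹ (inv_mem (hQ he)) _ h2 z hz
    have e1 : e⁻¹ * ((e * x) * a * (e * x)⁻¹) * e⁻¹⁻¹ = (x : G) * a * (x : G)⁻¹ := by group
    rw [e1] at h3
    exact h3.symm
  -- `W i ≤ C(V)` is impossible
  obtain ⟨k, hk1, hk2⟩ := b.third i j
  obtain ⟨w, hw, ew⟩ := b.trans i hij.symm hk1
  have h3 : BTwo.cj w (R j) = R j := BTwo.cj_eq_self_iff.2 (b.cen_le_N j (h1 hw))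
  exact hk2 (b.R_index (ew.symm.trans h3))

/-- **The BN-pair of `X E`**, if no node is of type `(γ)` -/
theorem RealSys.hasBN [Finite G] [Finite F] [CharP F 2] [Finite J] (b : BT V R) (c : Coord V R i j v w1 w2)
    (hF : ∃ a : F, a ≠ 0 ∧ a ≠ 1) (hij : i ≠ j)
    (hfr : ∀ x ∈ normalizer (R i : Set G), ∃ e ∈ E, e * x ∈ normalizer (V : Set G)) (D : RealSys V R i E B U P m)
    (hg : ∀ k, ¬ GamT V (P k))
    (hr : ∀ k, ¬ P k ≤ normalizer (V : Set G) → ∃ m0, 3 ≤ m0 ∧ Res0 V R B U P k m0) :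
    ∃ Q : BNPair ↥(XX V R ⊔ E), 3 ≤ Q.rank ∧ Q.Irreducible := by
  classical
  have hJ : 2 ≤ Nat.card J := by
    by_contra hcard
    have hcard' : Nat.card J ≤ 1 := by omega
    have hsub : Subsingleton J := (Finite.card_le_one_iff_subsingleton).1 hcard'
    rcases isEmpty_or_nonempty J with hemp | hne
    · -- `E ≤ ⊥`
      have h1 := gamT_of_frat b hij hfr D.E_le
      rw [iSup_of_empty] at h1
      obtain ⟨p, hp, x, hx, y, hy, hxy⟩ := h1
      rw [mem_bot.1 hp] at hxy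
      apply hxy
      have := b.V_comm x hx y hy
      rw [one_mul, inv_one, mul_one]
      exact this
    · obtain ⟨k⟩ := hne
      refine hg k (gamT_of_frat b hij hfr (D.E_le.trans (iSup_le fun l => ?_)))
      rw [Subsingleton.elim l k]
  have hne : Nonempty J := by
    by_contra h1
    rw [not_nonempty_iff] at h1
    rw [Nat.card_of_isEmpty] at hJ
    omega
  choose! m0 hm0 using hr
  have hpre := D.pre0 b c hF (m0 := m0) hm0
  have hconn := D.conn0 (m0 := m0) fun k hk => (hm0 k hk).1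
  have hcard : 3 ≤ Nat.card (Option J) := by
    have := Fintype.ofFinite J
    rw [Nat.card_eq_fintype_card, Fintype.card_option, ← Nat.card_eq_fintype_card]
    omega
  have : Fact (Nat.Prime 2) := ⟨Nat.prime_two⟩
  have hbn := hpre.bn hcard hconn
  rw [D.iSup_eq hne] at hbn
  exact hbn

end hasBN

end Cfsg.Agent.Omega.Lie.End

namespace Cfsg.Agent.Omega.IIa4

open Subgroup Cfsg Cfsg.Agent.ZN Cfsg.Agent.Omega.NatPair Cfsg.Agent.Omega.BTwo
open Cfsg.Agent.Omega.Frame Cfsg.Agent.Omega.FrameFF Cfsg.Agent.Omega.Lie.End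

universe u

namespace Sit

variable {G : Type u} [Group G] [Finite G] {S : Sylow 2 G} {P₀ : Subgroup G} {g : G} {F : Type} [Field F]
  [Finite F] [CharP F 2] {M : NatMod F (zl (S : Subgroup G) P₀)} (h : Sit S P₀ g M)
include h

/-- **The top level of NODE LIE.** -/
theorem gZero_of_real (hcen : CenSE (zl (S : Subgroup G) P₀) (pt M)) {i j : Pt M} (hij : i ≠ j)
    {E B U : Subgroup G} {J : Type} [Finite J] {P : J → Subgroup G} {m : J → J → ℕ}
    (hE : normalizer (pt M i : Set G) ≤ normalizer (E : Set G)) (hUE : UU (zl (S : Subgroup G) P₀) (pt M) j ≤ E)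
    (hER : E ≤ centralizer (pt M i : Set G)) (D : RealSys (zl (S : Subgroup G) P₀) (pt M) i E B U P m)
    (hg : ∀ k, ¬ GamT (zl (S : Subgroup G) P₀) (P k))
    (hr : ∀ k, ¬ P k ≤ normalizer (zl (S : Subgroup G) P₀ : Set G) →
      ∃ m0, 3 ≤ m0 ∧ Res0 (zl (S : Subgroup G) P₀) (pt M) B U P k m0) : GZero (zl (S : Subgroup G) P₀) (pt M) := by
  obtain ⟨v, w1, w2, c⟩ := h.exists_coord hij
  exact h.gZero_of hcen hij hE hUE hER
    (Or.inl (D.hasBN h.bt c h.exists_ne hij (fun _ hx => h.frattini hcen hij hE hUE hER hx) hg hr))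

end Sit

end Cfsg.Agent.Omega.IIa4

end

section


/-!
# THEOREM PAR with the Borel subgroup, the torus and the fundamental reflections (II.0h1, END)

`Pre.exists_bn` : the BN-pair `Q` of `⨆ i, P i` with `Q.B = B`, `Q.B = U (Q.B ∩ Q.N)`, `Q.S = {n i}`, `n i ∈ P i`.
`RealSys.exists_bn` : for `X E`: all fundamental reflections but one lie in `⨆ k, P k`.
-/

set_option autoImplicit false
set_option linter.unusedSectionVars false

namespace Cfsg.Agent.Omega.HOne.EndBN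

open Subgroup Cfsg Cfsg.Agent.Omega.BTwo Cfsg.Agent.ParSys Cfsg.Agent.Omega.Lie.Zero Cfsg.Agent.Omega.Lie.End

universe u v w

section pre

variable {G : Type*} [Group G] {I : Type*} {p : ℕ} {B U : Subgroup G} {P : I → Subgroup G} {m : I → I → ℕ}

theorem exists_sys [Finite G] [hp : Fact p.Prime] (D : Pre p B U P m) (gen : ⨆ i, P i = ⊤) :
    ∃ H : Subgroup G, Sys p B U H P m ∧ U ⊔ H = B := by
  obtain ⟨H, hall, hUH⟩ := exists_hall_of_index D.U_le D.norm D.isP D.index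
  exact ⟨H, {
    hall := hall
    gen := gen
    le := D.le
    three := D.three
    ptr := D.ptr
    reg := D.reg
    fix := fun i => fix_of_fpfG hall (D.le i) (D.fpf i)
    m_two := D.m_two
    m_symm := D.m_symm
    poly := D.poly
    torus := fun i j hij => (D.sep i j hij).imp
      (fun h => (sep_of_sepG hall (D.le i) (D.le j) h).sepT hall (D.le j))
      (fun h => (sep_of_sepG hall (D.le j) (D.le i) h).sepT hall (D.le i))
    frat := fun i j hij T hT _ h => D.frat i j hij T hT h }, hUH⟩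

/-- THEOREM PAR, `gen` -/
theorem exists_bn_top [Finite G] [Finite I] [hp : Fact p.Prime] (D : Pre p B U P m) (gen : ⨆ i, P i = ⊤)
    (h3 : 3 ≤ Nat.card I)
    (conn : ∀ J : Set I, J.Nonempty → Jᶜ.Nonempty → ∃ i ∈ J, ∃ j ∈ Jᶜ, 3 ≤ m i j) :
    ∃ (Q : Cfsg.BNPair G) (n : I → G), Q.B = B ∧ Q.S = Set.range n ∧ (∀ i, n i ∈ P i ∧ n i ∉ B) ∧
      (∀ b ∈ Q.B, ∃ u ∈ U, ∃ t ∈ Q.B ⊓ Q.N, b = u * t) ∧ 3 ≤ Q.rank ∧ Q.Irreducible := by
  obtain ⟨H, S, hUH⟩ := exists_sys D gen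
  obtain ⟨n, -, D'⟩ := S.data
  have hrank : D'.bnPair.rank = Nat.card I := D'.rank_bnPair
  refine ⟨D'.bnPair, n, rfl, rfl, fun i => ⟨D'.n_mem i, D'.n_not i⟩, ?_, hrank ▸ h3, D'.irreducible conn⟩
  intro b hb
  have hb' : b ∈ H ⊔ U := by rw [sup_comm, hUH]; exact hb
  have hHU : H ≤ normalizer (U : Set G) := S.hall.H_norm_U
  obtain ⟨h, hh, u, hu, rfl⟩ := BTwo.exists_mul_of_mem_sup hHU hb'
  refine ⟨h * u * h⁻¹, BTwo.conj_mem_of_normalizer (hHU hh) hu, h, mem_inf.2 ⟨S.hall.H_le hh, ?_⟩, by group⟩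
  exact D'.H_le_N (mem_inf.2 ⟨S.hall.H_le hh, le_normalizer hh⟩)

/-- **THEOREM PAR for a subgroup** -/
theorem exists_bn [Finite G] [Finite I] [hp : Fact p.Prime] (D : Pre p B U P m) (h3 : 3 ≤ Nat.card I)
    (conn : ∀ J : Set I, J.Nonempty → Jᶜ.Nonempty → ∃ i ∈ J, ∃ j ∈ Jᶜ, 3 ≤ m i j) {X : Subgroup G}
    (hX : ⨆ i, P i = X) :
    ∃ (Q : Cfsg.BNPair X) (n : I → X), Q.B = B.subgroupOf X ∧ Q.S = Set.range n ∧
      (∀ i, (n i : G) ∈ P i ∧ (n i : G) ∉ B) ∧
      (∀ b ∈ Q.B, ∃ u ∈ U.subgroupOf X, ∃ t ∈ Q.B ⊓ Q.N, b = u * t) ∧ 3 ≤ Q.rank ∧ Q.Irreducible := by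
  subst hX
  have hne : Nonempty I := by
    by_contra h
    rw [not_nonempty_iff] at h
    rw [Nat.card_of_isEmpty] at h3
    omega
  obtain ⟨i₀⟩ := hne
  have hP : ∀ i, P i ≤ (⨆ i, P i : Subgroup G).subtype.range := fun i => by
    rw [range_subtype]
    exact le_iSup P i
  have D' := D.comap (φ := (⨆ i, P i : Subgroup G).subtype) (by
      rw [ker_subtype]
      exact IsPGroup.of_bot) ((D.le i₀).trans (hP i₀)) hP
  obtain ⟨Q, n, h1, h2, h4, h5, h6, h7⟩ := exists_bn_top D' (by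
    have e : (⨆ i, (P i).comap (⨆ i, P i : Subgroup G).subtype).map (⨆ i, P i : Subgroup G).subtype =
        (⊤ : Subgroup ↥(⨆ i, P i : Subgroup G)).map (⨆ i, P i : Subgroup G).subtype := by
      rw [Subgroup.map_iSup, ← MonoidHom.range_eq_map, range_subtype]
      exact iSup_congr fun i => map_comap_eq_self (hP i)
    exact map_injective (subtype_injective _) e) h3 conn
  exact ⟨Q, n, h1, h2, h4, h5, h6, h7⟩

end pre

section real

variable {G : Type u} [Group G] {ι : Type w} {V : Subgroup G} {R : ι → Subgroup G} {i j : ι} {F : Type v} [Field F]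
  {v : F → F → G} {w1 w2 : F → G} {E B U : Subgroup G} {J : Type} {P : J → Subgroup G} {m : J → J → ℕ}

/-- **The BN-pair of `X E`**, if no node is of type `(γ)`; `s₀` = the reflection of the node `0` -/
theorem exists_bn_real [Finite G] [Finite F] [CharP F 2] [Finite J] (b : BT V R) (c : Coord V R i j v w1 w2)
    (hF : ∃ a : F, a ≠ 0 ∧ a ≠ 1) (hij : i ≠ j)
    (hfr : ∀ x ∈ normalizer (R i : Set G), ∃ e ∈ E, e * x ∈ normalizer (V : Set G)) (D : RealSys V R i E B U P m)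
    (hg : ∀ k, ¬ GamT V (P k))
    (hr : ∀ k, ¬ P k ≤ normalizer (V : Set G) → ∃ m0, 3 ≤ m0 ∧ Res0 V R B U P k m0) :
    ∃ (Q : BNPair ↥(XX V R ⊔ E)) (s₀ : ↥(XX V R ⊔ E)), Q.B = B.subgroupOf (XX V R ⊔ E) ∧ s₀ ∈ Q.S ∧
      (∀ s ∈ Q.S, s ≠ s₀ → (s : G) ∈ ⨆ k, P k) ∧
      (∀ x ∈ Q.B, ∃ u ∈ U.subgroupOf (XX V R ⊔ E), ∃ t ∈ Q.B ⊓ Q.N, x = u * t) ∧ 3 ≤ Q.rank ∧
      Q.Irreducible ∧ 2 ≤ Nat.card J := by
  classical
  have hJ : 2 ≤ Nat.card J := by
    by_contra hcard
    have hcard' : Nat.card J ≤ 1 := by omega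
    have hsub : Subsingleton J := (Finite.card_le_one_iff_subsingleton).1 hcard'
    rcases isEmpty_or_nonempty J with hemp | hne
    · -- `E ≤ ⊥`
      have h1 := gamT_of_frat b hij hfr D.E_le
      rw [iSup_of_empty] at h1
      obtain ⟨p, hp, x, hx, y, hy, hxy⟩ := h1
      rw [mem_bot.1 hp] at hxy
      apply hxy
      have := b.V_comm x hx y hy
      rw [one_mul, inv_one, mul_one]
      exact this
    · obtain ⟨k⟩ := hne
      refine hg k (gamT_of_frat b hij hfr (D.E_le.trans (iSup_le fun l => ?_)))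
      rw [Subsingleton.elim l k]
  have hne : Nonempty J := by
    by_contra h1
    rw [not_nonempty_iff] at h1
    rw [Nat.card_of_isEmpty] at hJ
    omega
  choose! m0 hm0 using hr
  have hpre := D.pre0 b c hF (m0 := m0) hm0
  have hconn := D.conn0 (m0 := m0) fun k hk => (hm0 k hk).1
  have hcard : 3 ≤ Nat.card (Option J) := by
    have := Fintype.ofFinite J
    rw [Nat.card_eq_fintype_card, Fintype.card_option, ← Nat.card_eq_fintype_card]
    omega
  have : Fact (Nat.Prime 2) := ⟨Nat.prime_two⟩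
  obtain ⟨Q, n, h1, h2, h4, h5, h6, h7⟩ := exists_bn hpre hcard hconn (D.iSup_eq hne)
  refine ⟨Q, n none, h1, by rw [h2]; exact ⟨none, rfl⟩, ?_, h5, h6, h7, hJ⟩
  intro s hs hs0
  rw [h2] at hs
  obtain ⟨x, rfl⟩ := hs
  rcases x with _ | k
  · exact absurd rfl hs0
  · exact (le_iSup P k) (h4 (some k)).1

end real

end Cfsg.Agent.Omega.HOne.EndBN

end

section


/-!
# The end of NODE LIE: the parabolic system of a product of commuting components

`H` finite, `K a` pairwise commuting subgroups with parabolic systems `KSys (S a) (actT a) (P a) (m a)`, `T` a group of odd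
order normalising the `K a` and `S a`.  With `U = ⨆ S a`, `C = (⨆ N_{K a}(S a)) T`, `PPx ⟨a, k⟩ = (P a k) C` we prove
`Pre 2 C U PPx mm`.
-/

set_option autoImplicit false
set_option linter.unusedSectionVars false

namespace Cfsg.Agent.Omega.Lie.End

open Subgroup Cfsg.Agent.ParSys

variable {H : Type*} [Group H]

/-- the group of automorphisms of `K` induced by `T ⊓ N(K)` -/
def actT (K T : Subgroup H) : Subgroup (MulAut K) :=
  (T.subgroupOf (normalizer (K : Set H))).map K.normalizerMonoidHom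

theorem mem_actT {K T : Subgroup H} {τ : MulAut K} : τ ∈ actT K T ↔ ∃ (t : H) (ht : t ∈ normalizer (K : Set H)),
    t ∈ T ∧ K.normalizerMonoidHom ⟨t, ht⟩ = τ := by
  unfold actT
  constructor
  · rintro ⟨t, ht, rfl⟩
    exact ⟨t, t.2, mem_subgroupOf.1 ht, rfl⟩
  · rintro ⟨t, ht, htT, rfl⟩
    exact ⟨⟨t, ht⟩, mem_subgroupOf.2 htT, rfl⟩

/-! ### odd indices -/

/-- Every element of `C` has an odd power in `U`. -/
def OddPow (U C : Subgroup H) : Prop := ∀ x ∈ C, ∃ k : ℕ, Odd k ∧ x ^ k ∈ U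

theorem OddPow.coprime [Finite H] {U C : Subgroup H} (hn : C ≤ normalizer (U : Set H)) (h : OddPow U C) :
    Nat.Coprime 2 (U.relIndex C) := by
  have hn' : (U.subgroupOf C).Normal := Subgroup.normal_subgroupOf_of_le_normalizer hn
  rw [Nat.Prime.coprime_iff_not_dvd Nat.prime_two]
  intro hd
  have hfact : Fact (Nat.Prime 2) := ⟨Nat.prime_two⟩
  have hd' : 2 ∣ Nat.card (C ⧸ U.subgroupOf C) := by
    rw [← Subgroup.index_eq_card]; exact hd
  obtain ⟨z, hz⟩ := exists_prime_orderOf_dvd_card' (G := C ⧸ U.subgroupOf C) 2 hd'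
  obtain ⟨x, rfl⟩ := QuotientGroup.mk'_surjective (U.subgroupOf C) z
  obtain ⟨k, hk, hxk⟩ := h x x.2
  have h2 : (QuotientGroup.mk' (U.subgroupOf C) x) ^ k = 1 := by
    rw [← map_pow, QuotientGroup.mk'_apply, QuotientGroup.eq_one_iff, Subgroup.mem_subgroupOf]
    simpa using hxk
  have h3 := orderOf_dvd_of_pow_eq_one h2
  rw [hz] at h3
  rw [← Nat.not_even_iff_odd, even_iff_two_dvd] at hk
  exact hk h3

theorem OddPow.of_coprime {U C : Subgroup H} (hn : C ≤ normalizer (U : Set H)) (h : Odd (U.relIndex C)) :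
    OddPow U C := fun _ hx => ⟨_, h, Hall.pow_relIndex_mem hn hx⟩

/-- `B T`, `T` of odd order normalising `B` -/
theorem OddPow.sup_right {U B T : Subgroup H} (h : OddPow U B) (hT : T ≤ normalizer (B : Set H))
    (hodd : Odd (Nat.card T)) : OddPow U (B ⊔ T) := by
  intro x hx
  rw [sup_comm] at hx
  obtain ⟨b, hb, t, ht, rfl⟩ := Solvable.Glauberman.exists_mul_of_mem_sup T B hT hx
  have key : ∀ n : ℕ, ∃ b' ∈ B, (b * t) ^ n = b' * t ^ n := by
    intro n
    induction n with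
    | zero => exact ⟨1, one_mem _, by simp⟩
    | succ n ih =>
      obtain ⟨b', hb', e⟩ := ih
      refine ⟨b' * (t ^ n * b * (t ^ n)⁻¹), mul_mem hb' ?_, ?_⟩
      · exact (mem_normalizer_iff.mp (hT (pow_mem ht n)) b).mp hb
      · rw [pow_succ, e, pow_succ]; group
  obtain ⟨b', hb', e⟩ := key (Nat.card T)
  have h1 : t ^ Nat.card T = 1 := Hall.pow_card_of_mem ht
  rw [h1, mul_one] at e
  obtain ⟨k, hk, h2⟩ := h b' hb'
  exact ⟨Nat.card T * k, hodd.mul hk, by rw [pow_mul, e]; exact h2⟩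

/-! ### families of commuting subgroups -/

section fam

variable {α : Type*} {F F' : α → Subgroup H}

/-- the members of the family commute -/
def Cmf (F : α → Subgroup H) : Prop := ∀ a b, a ≠ b → ∀ x ∈ F a, ∀ y ∈ F b, x * y = y * x

theorem Cmf.mono (h : Cmf F) (hle : ∀ a, F' a ≤ F a) : Cmf F' := fun a b hab x hx y hy =>
  h a b hab x (hle a hx) y (hle b hy)

/-- the product of the other members -/
def oth (F : α → Subgroup H) (a : α) : Subgroup H := ⨆ b : {b : α // b ≠ a}, F b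

theorem oth_le {a : α} : oth F a ≤ ⨆ b, F b := iSup_le fun b => le_iSup F b.1

theorem Cmf.oth_comm (h : Cmf F) {a : α} {x z : H} (hx : x ∈ F a) (hz : z ∈ oth F a) : z * x = x * z := by
  have h1 : oth F a ≤ centralizer {x} := by
    refine iSup_le fun b y hy => ?_
    rw [mem_centralizer_singleton_iff]
    exact h b a b.2 y hy x hx
  exact mem_centralizer_singleton_iff.1 (h1 hz)

theorem iSup_eq (a : α) : (⨆ b, F b) = F a ⊔ oth F a := by
  apply le_antisymm
  · refine iSup_le fun b => ?_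
    by_cases hb : b = a
    · subst hb; exact le_sup_left
    · exact (le_iSup (fun b : {b : α // b ≠ a} => F b) ⟨b, hb⟩).trans le_sup_right
  · exact sup_le (le_iSup F a) oth_le

/-- `x = y z`, `y ∈ F a`, `z` in the product of the others -/
theorem Cmf.exists_mul (h : Cmf F) (a : α) {x : H} (hx : x ∈ ⨆ b, F b) : ∃ y ∈ F a, ∃ z ∈ oth F a, x = y * z := by
  rw [iSup_eq a, sup_comm] at hx
  refine Solvable.Glauberman.exists_mul_of_mem_sup (oth F a) (F a) (fun z hz => ?_) hx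
  rw [mem_normalizer_iff]
  intro y
  have key : ∀ w ∈ oth F a, ∀ y ∈ F a, w * y * w⁻¹ ∈ F a := fun w hw y hy => by
    rw [h.oth_comm hy hw, mul_inv_cancel_right]; exact hy
  refine ⟨key z hz y, fun hy => ?_⟩
  have := key z⁻¹ (inv_mem hz) _ hy
  have e : z⁻¹ * (z * y * z⁻¹) * z⁻¹⁻¹ = y := by group
  rwa [e] at this

/-- powers -/
theorem Cmf.pow_mem [Finite α] (h : Cmf F) (hle : ∀ a, F' a ≤ F a) {n : α → ℕ}
    (hn : ∀ a, ∀ x ∈ F a, x ^ n a ∈ F' a) {x : H} (hx : x ∈ ⨆ a, F a) :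
    x ^ (∏ᶠ a, n a) ∈ ⨆ a, F' a := by
  classical
  have := Fintype.ofFinite α
  have hc : Pairwise fun i j => ∀ x y : H, x ∈ F i → y ∈ F j → Commute x y :=
    fun i j hij x y hx hy => h i j hij x hx y hy
  have hc' : Pairwise fun i j => ∀ x y : H, x ∈ F' i → y ∈ F' j → Commute x y :=
    fun i j hij x y hx hy => h i j hij x (hle i hx) y (hle j hy)
  rw [← Subgroup.noncommPiCoprod_range (hcomm := hc)] at hx
  obtain ⟨f, rfl⟩ := hx
  rw [finprod_eq_prod_of_fintype]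
  have hf : ∀ a, ((f a : F a) : H) ^ (∏ a, n a) ∈ F' a := by
    intro a
    obtain ⟨k, hk⟩ : n a ∣ ∏ a, n a := Finset.dvd_prod_of_mem n (Finset.mem_univ a)
    rw [hk, pow_mul]
    exact _root_.pow_mem (hn a _ (f a).2) k
  rw [← map_pow, Subgroup.noncommPiCoprod_apply]
  refine Subgroup.noncommProd_mem _ _ fun a _ => ?_
  exact (le_iSup F' a) (by simpa only [_root_.Pi.pow_apply, _root_.SubmonoidClass.coe_pow] using hf a)

theorem Cmf.isPGroup [Finite α] [Finite H] {p : ℕ} [hp : Fact p.Prime] (h : Cmf F) (h2 : ∀ a, IsPGroup p (F a)) :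
    IsPGroup p (⨆ a, F a : Subgroup H) := by
  rintro ⟨x, hx⟩
  have h1 := h.pow_mem (F' := fun _ => ⊥) (fun _ => bot_le) (n := fun a => Nat.card (F a))
    (fun a x hx => mem_bot.2 (Hall.pow_card_of_mem hx)) hx
  have h3 : ∃ n : ℕ, (∏ᶠ a, Nat.card (F a)) = p ^ n := by
    classical
    have := Fintype.ofFinite α
    rw [finprod_eq_prod_of_fintype]
    choose n hn using fun a => (IsPGroup.iff_card (p := p)).mp (h2 a)
    exact ⟨∑ a, n a, by rw [← Finset.prod_pow_eq_pow_sum]; exact Finset.prod_congr rfl fun a _ => hn a⟩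
  obtain ⟨n, hn⟩ := h3
  rw [hn, iSup_bot, mem_bot] at h1
  exact ⟨n, Subtype.ext (by simpa only [_root_.SubmonoidClass.mk_pow, _root_.OneMemClass.coe_one] using h1)⟩

theorem Cmf.oddPow [Finite α] (h : Cmf F) (hle : ∀ a, F' a ≤ F a) (hn : ∀ a, F a ≤ normalizer (F' a : Set H))
    (hodd : ∀ a, Odd ((F' a).relIndex (F a))) : OddPow (⨆ a, F' a) (⨆ a, F a) := by
  intro x hx
  refine ⟨∏ᶠ a, (F' a).relIndex (F a), ?_, h.pow_mem hle (fun a x hx => Hall.pow_relIndex_mem (hn a) hx) hx⟩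
  classical
  have := Fintype.ofFinite α
  rw [finprod_eq_prod_of_fintype]
  exact Finset.prod_induction _ Odd (fun _ _ h1 h2 => h1.mul h2) odd_one fun a _ => hodd a

end fam

/-! ### the situation -/

/-- Commuting components with parabolic systems. -/
structure PSit {α : Type} (K : α → Subgroup H) (S : ∀ a, Subgroup (K a)) (T : Subgroup H) (J : α → Type)
    (P : ∀ a, J a → Subgroup (K a)) (m : ∀ a, J a → J a → ℕ) : Prop where
  comm : Cmf K
  oddT : Odd (Nat.card T)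
  T_K : ∀ a, T ≤ normalizer (K a : Set H)
  T_S : ∀ a, ∀ t ∈ T, ∀ x ∈ S a, ∃ y ∈ S a, (y : H) = t * x * t⁻¹
  T_ne : ∀ a, ∃ τ ∈ actT (K a) T, τ ≠ 1
  sys : ∀ a, KSys (S a) (actT (K a) T) (P a) (m a)

/-- three chambers -/
theorem three_of_relIndex {B P : Subgroup H} (h : 3 ≤ B.relIndex P) :
    ∃ x ∈ P, ∃ y ∈ P, x ∉ B ∧ y ∉ B ∧ x⁻¹ * y ∉ B := by
  classical
  have hc : 3 ≤ Nat.card (P ⧸ B.subgroupOf P) := by
    rw [← Subgroup.index_eq_card]; exact h
  have hfin : Finite (P ⧸ B.subgroupOf P) := Nat.finite_of_card_ne_zero (by omega)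
  have := Fintype.ofFinite (P ⧸ B.subgroupOf P)
  rw [Nat.card_eq_fintype_card] at hc
  have key : ∀ s : Finset (P ⧸ B.subgroupOf P), s.card ≤ 2 → ∃ x, x ∉ s := by
    intro s hs
    obtain ⟨x, -, hx⟩ := Finset.exists_mem_notMem_of_card_lt_card (s := s) (t := Finset.univ)
      (by rw [Finset.card_univ]; omega)
    exact ⟨x, hx⟩
  obtain ⟨x, hx⟩ := key {((1 : P) : P ⧸ B.subgroupOf P)} (by simp only [_root_.Finset.card_singleton, _root_.Nat.one_le_ofNat])
  obtain ⟨y, hy⟩ := key {((1 : P) : P ⧸ B.subgroupOf P), x} (Finset.card_le_two)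
  induction x using QuotientGroup.induction_on with
  | H x =>
    induction y using QuotientGroup.induction_on with
    | H y =>
      rw [Finset.mem_singleton] at hx
      rw [Finset.mem_insert, Finset.mem_singleton, not_or] at hy
      refine ⟨x, x.2, y, y.2, fun h1 => hx ?_, fun h1 => hy.1 ?_, fun h1 => hy.2 ?_⟩
      · symm
        rw [QuotientGroup.eq, mem_subgroupOf]
        simpa using h1
      · symm
        rw [QuotientGroup.eq, mem_subgroupOf]
        simpa only [_root_.inv_one, _root_.one_mul] using h1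
      · symm
        rw [QuotientGroup.eq, mem_subgroupOf]
        simpa only [_root_.Subgroup.coe_mul, _root_.InvMemClass.coe_inv] using h1

/-- `C = (⨆ N_{K a}(S a)) T` -/
def CC {α : Type} (K : α → Subgroup H) (S : ∀ a, Subgroup (K a)) (T : Subgroup H) : Subgroup H :=
  (⨆ a, (normalizer (S a : Set (K a))).map (K a).subtype) ⊔ T

/-- `U = ⨆ S a` -/
def UE {α : Type} (K : α → Subgroup H) (S : ∀ a, Subgroup (K a)) : Subgroup H :=
  ⨆ a, (S a).map (K a).subtype

/-- the parabolic subgroups -/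
def PPx {α : Type} (K : α → Subgroup H) (S : ∀ a, Subgroup (K a)) (T : Subgroup H) {J : α → Type}
    (P : ∀ a, J a → Subgroup (K a)) (x : Σ a, J a) : Subgroup H :=
  Mx (K x.1) (CC K S T) (P x.1 x.2)

open Classical in
/-- the Coxeter matrix -/
noncomputable def mm {α : Type} {J : α → Type} (m : ∀ a, J a → J a → ℕ) (x y : Σ a, J a) : ℕ :=
  if h : y.1 = x.1 then m x.1 x.2 (h ▸ y.2) else 2

theorem mm_same {α : Type} {J : α → Type} (m : ∀ a, J a → J a → ℕ) (a : α) (k l : J a) :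
    mm m ⟨a, k⟩ ⟨a, l⟩ = m a k l := by
  unfold mm
  rw [dif_pos rfl]

theorem mm_ne {α : Type} {J : α → Type} (m : ∀ a, J a → J a → ℕ) {a b : α} (h : a ≠ b) (k : J a) (l : J b) :
    mm m ⟨a, k⟩ ⟨b, l⟩ = 2 := by
  unfold mm
  rw [dif_neg (Ne.symm h)]

namespace PSit

variable {α : Type} {K : α → Subgroup H} {S : ∀ a, Subgroup (K a)} {T : Subgroup H} {J : α → Type}
  {P : ∀ a, J a → Subgroup (K a)} {m : ∀ a, J a → J a → ℕ} (D : PSit K S T J P m)

include D

theorem T_S' (a : α) {t : H} (ht : t ∈ T) : t ∈ normalizer ((S a).map (K a).subtype : Set H) := by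
  have key : ∀ t ∈ T, ∀ x ∈ (S a).map (K a).subtype, t * x * t⁻¹ ∈ (S a).map (K a).subtype := by
    rintro t ht _ ⟨x, hx, rfl⟩
    obtain ⟨y, hy, e⟩ := D.T_S a t ht x hx
    exact ⟨y, hy, e⟩
  rw [mem_normalizer_iff]
  intro x
  refine ⟨fun hx => key t ht x hx, fun hx => ?_⟩
  have := key t⁻¹ (inv_mem ht) _ hx
  have e : t⁻¹ * (t * x * t⁻¹) * t⁻¹⁻¹ = x := by group
  rwa [e] at this

theorem S_fam : Cmf fun a => (S a).map (K a).subtype := D.comm.mono fun _ => map_subtype_le _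

theorem B_fam : Cmf fun a => (normalizer (S a : Set (K a))).map (K a).subtype :=
  D.comm.mono fun _ => map_subtype_le _

omit D in
theorem B_norm_S (a : α) : (normalizer (S a : Set (K a))).map (K a).subtype ≤
    normalizer ((S a).map (K a).subtype : Set H) := by
  rintro _ ⟨b, hb, rfl⟩
  have key : ∀ b ∈ normalizer (S a : Set (K a)), ∀ x ∈ (S a).map (K a).subtype,
      (b : H) * x * (b : H)⁻¹ ∈ (S a).map (K a).subtype := by
    rintro b hb _ ⟨x, hx, rfl⟩
    exact ⟨b * x * b⁻¹, (mem_normalizer_iff.mp hb x).mp hx, rfl⟩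
  rw [coe_subtype, mem_normalizer_iff]
  intro x
  refine ⟨fun hx => key b hb x hx, fun hx => ?_⟩
  have := key b⁻¹ (inv_mem hb) _ hx
  rw [coe_inv] at this
  have e : (b : H)⁻¹ * ((b : H) * x * (b : H)⁻¹) * (b : H)⁻¹⁻¹ = x := by group
  rwa [e] at this

/-- elements of another component normalise every subgroup of `K a` -/
theorem norm_of_ne {a b : α} (hab : a ≠ b) {L : Subgroup (K a)} {x : H} (hx : x ∈ K b) :
    x ∈ normalizer (L.map (K a).subtype : Set H) := by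
  rw [mem_normalizer_iff]
  intro y
  have key : ∀ z ∈ L.map (K a).subtype, x * z * x⁻¹ = z := by
    rintro _ ⟨z, -, rfl⟩
    rw [coe_subtype, ← D.comm a b hab _ z.2 x hx, mul_inv_cancel_right]
  constructor
  · intro hy
    rw [key y hy]; exact hy
  · intro hy
    have h1 := key _ hy
    have e : x⁻¹ * (x * (x * y * x⁻¹) * x⁻¹) * x = x * y * x⁻¹ := by group
    rw [h1] at e
    have e2 : x⁻¹ * (x * y * x⁻¹) * x = y := by group
    rw [e2] at e
    rw [e]; exact hy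

/-- a subgroup of `K a` normalised by `N(S a)` and `T` is normalised by `C` -/
theorem cn_of {a : α} {L : Subgroup (K a)} (h1 : normalizer (S a : Set (K a)) ≤ normalizer (L : Set (K a)))
    (h2 : T ≤ normalizer (L.map (K a).subtype : Set H)) : Cn (K a) (CC K S T) L := by
  have h3 : CC K S T ≤ normalizer (L.map (K a).subtype : Set H) := by
    refine sup_le (iSup_le fun b => ?_) h2
    by_cases hab : a = b
    · subst hab
      rintro _ ⟨x, hx, rfl⟩
      have key : ∀ b ∈ normalizer (S a : Set (K a)), ∀ y ∈ L.map (K a).subtype,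
          (b : H) * y * (b : H)⁻¹ ∈ L.map (K a).subtype := by
        rintro b hb _ ⟨y, hy, rfl⟩
        exact ⟨b * y * b⁻¹, (mem_normalizer_iff.mp (h1 hb) y).mp hy, rfl⟩
      rw [coe_subtype, mem_normalizer_iff]
      intro y
      refine ⟨fun hy => key x hx y hy, fun hy => ?_⟩
      have := key x⁻¹ (inv_mem hx) _ hy
      rw [coe_inv] at this
      have e : (x : H)⁻¹ * ((x : H) * y * (x : H)⁻¹) * (x : H)⁻¹⁻¹ = y := by group
      rwa [e] at this
    · rintro _ ⟨x, -, rfl⟩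
      exact D.norm_of_ne hab x.2
  intro c hc x hx
  obtain ⟨y, hy, e⟩ := (mem_normalizer_iff.mp (h3 hc) (x : H)).mp ⟨x, hx, rfl⟩
  exact ⟨y, hy, e⟩

theorem C_norm_S (a : α) : Cn (K a) (CC K S T) (S a) := D.cn_of le_rfl fun _ ht => D.T_S' a ht

theorem C_norm_P (a : α) (k : J a) : Cn (K a) (CC K S T) (P a k) := by
  refine D.cn_of (((D.sys a).le k).trans le_normalizer) fun t ht => ?_
  have key : ∀ t ∈ T, ∀ x ∈ (P a k).map (K a).subtype, t * x * t⁻¹ ∈ (P a k).map (K a).subtype := by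
    rintro t ht _ ⟨x, hx, rfl⟩
    have h1 := (D.sys a).T_P k _ (mem_actT.2 ⟨t, D.T_K a ht, ht, rfl⟩) x hx
    exact ⟨_, h1, rfl⟩
  rw [mem_normalizer_iff]
  intro x
  refine ⟨fun hx => key t ht x hx, fun hx => ?_⟩
  have := key t⁻¹ (inv_mem ht) _ hx
  have e : t⁻¹ * (t * x * t⁻¹) * t⁻¹⁻¹ = x := by group
  rwa [e] at this

theorem T_norm_B : T ≤ normalizer ((⨆ a, (normalizer (S a : Set (K a))).map (K a).subtype : Subgroup H) : Set H) := by
  have key : ∀ t ∈ T, ∀ x ∈ (⨆ a, (normalizer (S a : Set (K a))).map (K a).subtype : Subgroup H),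
      t * x * t⁻¹ ∈ (⨆ a, (normalizer (S a : Set (K a))).map (K a).subtype : Subgroup H) := by
    intro t ht x hx
    have h1 : (⨆ a, (normalizer (S a : Set (K a))).map (K a).subtype : Subgroup H) ≤
        (⨆ a, (normalizer (S a : Set (K a))).map (K a).subtype : Subgroup H).comap (MulAut.conj t).toMonoidHom := by
      refine iSup_le fun a => ?_
      rintro _ ⟨b, hb, rfl⟩
      rw [mem_comap]
      refine (le_iSup (fun a => (normalizer (S a : Set (K a))).map (K a).subtype) a) ?_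
      have hbK : t * (b : H) * t⁻¹ ∈ K a := (mem_normalizer_iff.mp (D.T_K a ht) _).mp b.2
      refine ⟨⟨_, hbK⟩, ?_, rfl⟩
      have hS : ∀ t ∈ T, ∀ x : K a, x ∈ S a → ∀ h : t * (x : H) * t⁻¹ ∈ K a, (⟨t * x * t⁻¹, h⟩ : K a) ∈ S a := by
        intro t ht x hx h
        obtain ⟨y, hy, e⟩ := D.T_S a t ht x hx
        have : (⟨t * x * t⁻¹, h⟩ : K a) = y := Subtype.ext e.symm
        rw [this]; exact hy
      have hb2 : ∀ b : K a, b ∈ normalizer (S a : Set (K a)) → ∀ h : t * (b : H) * t⁻¹ ∈ K a, ∀ x ∈ S a,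
          (⟨t * b * t⁻¹, h⟩ : K a) * x * (⟨t * b * t⁻¹, h⟩ : K a)⁻¹ ∈ S a := by
        intro b hb h x hx
        obtain ⟨y, hy, e⟩ := D.T_S a t⁻¹ (inv_mem ht) x hx
        have h2 := (mem_normalizer_iff.mp hb y).mp hy
        obtain ⟨z, hz, e2⟩ := D.T_S a t ht _ h2
        have : (⟨t * b * t⁻¹, h⟩ : K a) * x * (⟨t * b * t⁻¹, h⟩ : K a)⁻¹ = z := by
          apply Subtype.ext
          rw [e2]
          simp only [coe_mul, coe_inv]
          rw [e]; group
        rw [this]; exact hz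
      rw [SetLike.mem_coe, mem_normalizer_iff]
      intro x
      refine ⟨fun hx => hb2 b hb hbK x hx, fun hx => ?_⟩
      have hbK' : t * ((b⁻¹ : K a) : H) * t⁻¹ ∈ K a := (mem_normalizer_iff.mp (D.T_K a ht) _).mp (b⁻¹).2
      have h3 := hb2 b⁻¹ (inv_mem hb) hbK' _ hx
      have e : (⟨t * ((b⁻¹ : K a) : H) * t⁻¹, hbK'⟩ : K a) *
          ((⟨t * (b : H) * t⁻¹, hbK⟩ : K a) * x * (⟨t * (b : H) * t⁻¹, hbK⟩ : K a)⁻¹) *
          (⟨t * ((b⁻¹ : K a) : H) * t⁻¹, hbK'⟩ : K a)⁻¹ = x := by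
        apply Subtype.ext
        simp only [coe_mul, coe_inv]
        group
      rwa [e] at h3
    exact h1 hx
  intro t ht
  rw [mem_normalizer_iff]
  intro x
  refine ⟨fun hx => key t ht x hx, fun hx => ?_⟩
  have := key t⁻¹ (inv_mem ht) _ hx
  have e : t⁻¹ * (t * x * t⁻¹) * t⁻¹⁻¹ = x := by group
  rwa [e] at this

theorem U_le : UE K S ≤ CC K S T :=
  (iSup_mono fun _ => Subgroup.map_mono le_normalizer).trans le_sup_left

/-- `C` normalises `U` -/
theorem C_norm_U : CC K S T ≤ normalizer (UE K S : Set H) := by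
  have key : ∀ c ∈ CC K S T, ∀ x ∈ UE K S, c * x * c⁻¹ ∈ UE K S := by
    intro c hc x hx
    have h1 : UE K S ≤ (UE K S).comap (MulAut.conj c).toMonoidHom := by
      refine iSup_le fun a => ?_
      rintro _ ⟨b, hb, rfl⟩
      rw [mem_comap]
      obtain ⟨y, hy, e⟩ := D.C_norm_S a c hc b hb
      exact (le_iSup (fun a => (S a).map (K a).subtype) a) ⟨y, hy, e⟩
    exact h1 hx
  intro t ht
  rw [mem_normalizer_iff]
  intro x
  refine ⟨fun hx => key t ht x hx, fun hx => ?_⟩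
  have := key t⁻¹ (inv_mem ht) _ hx
  have e : t⁻¹ * (t * x * t⁻¹) * t⁻¹⁻¹ = x := by group
  rwa [e] at this

theorem isP [Finite α] [Finite H] : IsPGroup 2 (UE K S) := by
  have : Fact (Nat.Prime 2) := ⟨Nat.prime_two⟩
  exact D.S_fam.isPGroup fun a => ((D.sys a).isP).map _

omit D in
theorem relIndex_map {a : α} {L L' : Subgroup (K a)} : (L.map (K a).subtype).relIndex (L'.map (K a).subtype) =
    L.relIndex L' := by
  rw [Subgroup.relIndex_map_map_of_injective _ _ (K a).subtype_injective]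

theorem oddPow [Finite α] : OddPow (UE K S) (CC K S T) := by
  refine OddPow.sup_right ?_ D.T_norm_B D.oddT
  refine D.B_fam.oddPow (fun _ => Subgroup.map_mono le_normalizer) (fun a => B_norm_S a) fun a => ?_
  rw [relIndex_map]
  exact (D.sys a).odd

theorem index [Finite α] [Finite H] : Nat.Coprime 2 ((UE K S).relIndex (CC K S T)) := D.oddPow.coprime D.C_norm_U

/-- **`Enl`** -/
theorem enl (a : α) : Enl (K a) (CC K S T) (UE K S) (normalizer (S a : Set (K a))) (S a) where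
  B_le := fun x hx => mem_sup_left ((le_iSup (fun a => (normalizer (S a : Set (K a))).map (K a).subtype) a)
    ⟨x, hx, rfl⟩)
  of_C := by
    intro x hx
    have key : ∀ z : K a, (z : H) ∈ CC K S T → ∀ y ∈ S a, z * y * z⁻¹ ∈ S a := by
      intro z hz y hy
      obtain ⟨w, hw, e⟩ := D.C_norm_S a z hz y hy
      have : z * y * z⁻¹ = w := Subtype.ext (by rw [e, coe_mul, coe_mul, coe_inv])
      rw [this]; exact hw
    rw [mem_normalizer_iff]
    intro y
    refine ⟨fun hy => key x hx y hy, fun hy => ?_⟩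
    have := key x⁻¹ (by rw [coe_inv]; exact inv_mem hx) _ hy
    have e : x⁻¹ * (x * y * x⁻¹) * x⁻¹⁻¹ = y := by group
    rwa [e] at this
  S_le := fun x hx => (le_iSup (fun a => (S a).map (K a).subtype) a) ⟨x, hx, rfl⟩
  S_B := le_normalizer
  U_le := D.U_le
  dec := by
    intro u hu
    obtain ⟨_, ⟨s, hs, rfl⟩, z, hz, e⟩ := D.S_fam.exists_mul a hu
    refine ⟨s, hs, z, oth_le hz, fun x => ?_, e⟩
    have h1 : oth (fun a => (S a).map (K a).subtype) a ≤ centralizer (K a : Set H) := by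
      refine iSup_le fun b => ?_
      rintro _ ⟨y, -, rfl⟩
      rw [mem_centralizer_iff]
      intro w hw
      exact D.comm a b b.2.symm w hw y y.2
    exact (mem_centralizer_iff.1 (h1 hz) x x.2).symm

theorem PPx_le (x : Σ a, J a) : CC K S T ≤ PPx K S T P x := C_le_Mx

/-! ### the action of `T` on the panels -/

/-- the commutator of `t ∈ T` with `s z` -/
theorem T_comm_iff {a : α} {L : Subgroup (K a)} (hn : Cn (K a) (CC K S T) L) (hB : normalizer (S a : Set (K a)) ≤ L)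
    {t : H} (ht : t ∈ T) {s : K a} (hs : s ∈ S a) {z : H} (hz : z ∈ UE K S) (hzc : ∀ x : K a, z * x = x * z) :
    t * (s * z) * t⁻¹ * (s * z)⁻¹ ∈ Qk (CC K S T) (Mx (K a) (CC K S T) L) ↔
      s⁻¹ * (K a).normalizerMonoidHom ⟨t, D.T_K a ht⟩ s ∈ Qk (normalizer (S a : Set (K a))) L := by
  set s' := (K a).normalizerMonoidHom ⟨t, D.T_K a ht⟩ s with hs'
  have hs1 : (s' : H) = t * s * t⁻¹ := rfl
  have htC : t ∈ CC K S T := mem_sup_right ht
  have hw : t * z * t⁻¹ * z⁻¹ ∈ UE K S :=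
    mul_mem ((mem_normalizer_iff.mp (D.C_norm_U htC) z).mp hz) (inv_mem hz)
  have hwc : ∀ x : K a, t * z * t⁻¹ * z⁻¹ * x = x * (t * z * t⁻¹ * z⁻¹) := by
    intro x
    have h1 : z⁻¹ * (x : H) = x * z⁻¹ := by
      rw [inv_mul_eq_iff_eq_mul, ← mul_assoc, hzc, mul_assoc, mul_inv_cancel, mul_one]
    have h2 : t * z * t⁻¹ * (x : H) = x * (t * z * t⁻¹) := by
      have hx : t⁻¹ * (x : H) * t ∈ K a := by
        have := (mem_normalizer_iff.mp (D.T_K a (inv_mem ht)) (x : H)).mp x.2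
        rwa [inv_inv] at this
      have h3 := hzc ⟨_, hx⟩
      have h4 : z * (t⁻¹ * (x : H) * t) = (t⁻¹ * x * t) * z := h3
      calc t * z * t⁻¹ * (x : H) = t * (z * (t⁻¹ * x * t)) * t⁻¹ := by group
        _ = x * (t * z * t⁻¹) := by rw [h4]; group
    calc t * z * t⁻¹ * z⁻¹ * (x : H) = t * z * t⁻¹ * (z⁻¹ * x) := by group
      _ = (t * z * t⁻¹ * x) * z⁻¹ := by rw [h1]; group
      _ = x * (t * z * t⁻¹ * z⁻¹) := by rw [h2]; group
  have e : t * (s * z) * t⁻¹ * ((s : H) * z)⁻¹ = ((s' * s⁻¹ : K a) : H) * (t * z * t⁻¹ * z⁻¹) := by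
    have h3 := hwc s⁻¹
    rw [coe_inv] at h3
    calc t * (s * z) * t⁻¹ * ((s : H) * z)⁻¹ = (t * s * t⁻¹) * (t * z * t⁻¹ * z⁻¹ * (s : H)⁻¹) := by group
      _ = ((s' * s⁻¹ : K a) : H) * (t * z * t⁻¹ * z⁻¹) := by rw [h3, coe_mul, coe_inv, hs1]; group
  rw [e, (D.enl a).mul_mem_Qk_iff hn (D.U_le hw) hwc]
  have hsL : s ∈ L := hB (le_normalizer hs)
  constructor
  · intro h
    have := Qk_conj h hsL
    have e2 : s⁻¹ * (s' * s⁻¹) * s = s⁻¹ * s' := by group
    rwa [e2] at this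
  · intro h
    have := Qk_conj' h hsL
    have e2 : s * (s⁻¹ * s') * s⁻¹ = s' * s⁻¹ := by group
    rwa [e2] at this

theorem unmoved {a : α} {k : J a} (h : Unmoved (S a) (actT (K a) T) (P a k)) {t : H} (ht : t ∈ T) {u : H}
    (hu : u ∈ UE K S) : t * u * t⁻¹ * u⁻¹ ∈ Qk (CC K S T) (PPx K S T P ⟨a, k⟩) := by
  obtain ⟨s, hs, z, hz, hzc, rfl⟩ := (D.enl a).dec u hu
  exact (D.T_comm_iff (D.C_norm_P a k) ((D.sys a).le k) ht hs hz hzc).2
    (h _ (mem_actT.2 ⟨t, D.T_K a ht, ht, rfl⟩) s hs)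

theorem moved {a : α} {k : J a} (h : Moved (S a) (actT (K a) T) (P a k)) {t : H} (ht : t ∈ T)
    (hne : (K a).normalizerMonoidHom ⟨t, D.T_K a ht⟩ ≠ 1) {u : H} (hu : u ∈ UE K S)
    (h1 : t * u * t⁻¹ * u⁻¹ ∈ Qk (CC K S T) (PPx K S T P ⟨a, k⟩)) : u ∈ Qk (CC K S T) (PPx K S T P ⟨a, k⟩) := by
  obtain ⟨s, hs, z, hz, hzc, rfl⟩ := (D.enl a).dec u hu
  have h2 := (D.T_comm_iff (D.C_norm_P a k) ((D.sys a).le k) ht hs hz hzc).1 h1
  exact ((D.enl a).mul_mem_Qk_iff (D.C_norm_P a k) (D.U_le hz) hzc).2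
    (h _ (mem_actT.2 ⟨t, D.T_K a ht, ht, rfl⟩) hne s hs h2)

theorem T_pow {t : H} (ht : t ∈ T) : ∃ k : ℕ, Nat.Coprime 2 k ∧ t ^ k = 1 :=
  ⟨Nat.card T, Nat.coprime_two_left.2 D.oddT, Hall.pow_card_of_mem ht⟩

theorem sep_T {a : α} {k l : J a} (h : Unmoved (S a) (actT (K a) T) (P a k))
    (h' : Moved (S a) (actT (K a) T) (P a l)) :
    SepG 2 (CC K S T) (UE K S) (PPx K S T P ⟨a, k⟩) (PPx K S T P ⟨a, l⟩) := by
  obtain ⟨τ, hτ, hne⟩ := D.T_ne a
  obtain ⟨t, htN, ht, rfl⟩ := mem_actT.1 hτ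
  exact ⟨t, mem_sup_right ht, D.T_pow ht, fun u hu => D.unmoved h ht hu, fun u hu h1 => D.moved h' ht hne hu h1⟩

/-! ### pairs of panels in different components -/

section two

variable {a b : α} (hab : a ≠ b) (k : J a) (l : J b)

include hab

theorem pair : Pair (CC K S T) (PPx K S T P ⟨a, k⟩) (PPx K S T P ⟨b, l⟩) ((P a k).map (K a).subtype)
    ((P b l).map (K b).subtype) where
  left := C_le_Mx
  right := C_le_Mx
  L_le := le_sup_left
  M_le := le_sup_left
  eqP := by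
    intro x hx
    obtain ⟨p, hp, c, hc, e⟩ := (D.C_norm_P a k).mem_Mx.1 hx
    exact ⟨p, ⟨p, hp, rfl⟩, c, hc, e⟩
  eqQ := by
    intro x hx
    obtain ⟨p, hp, c, hc, e⟩ := (D.C_norm_P b l).mem_Mx.1 hx
    exact ⟨p, ⟨p, hp, rfl⟩, c, hc, e⟩
  normL := (D.C_norm_P a k).le_normalizer
  normM := (D.C_norm_P b l).le_normalizer
  comm := by
    rintro _ ⟨x, -, rfl⟩ _ ⟨y, -, rfl⟩
    have h := D.comm a b hab x x.2 y y.2
    have e : (x : H)⁻¹ * (y : H)⁻¹ * x * y = 1 := by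
      calc (x : H)⁻¹ * (y : H)⁻¹ * x * y = (x : H)⁻¹ * (y : H)⁻¹ * (x * y) := by group
        _ = 1 := by rw [h]; group
    rw [coe_subtype, coe_subtype, e]
    exact one_mem _

theorem inf_le : ∀ x ∈ PPx K S T P ⟨a, k⟩, x ∈ PPx K S T P ⟨b, l⟩ → x ∈ CC K S T := by
  intro x hx hx'
  obtain ⟨p, hp, c, hc, rfl⟩ := (D.C_norm_P a k).mem_Mx.1 hx
  obtain ⟨q, hq, d, hd, e⟩ := (D.C_norm_P b l).mem_Mx.1 hx'
  refine mul_mem ((D.enl a).B_le p ?_) hc
  -- `q⁻¹ p ∈ C` normalises `S a`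
  have h1 : (q : H)⁻¹ * p ∈ CC K S T := by
    have h2 : (q : H)⁻¹ * p = d * c⁻¹ := by
      rw [inv_mul_eq_iff_eq_mul, ← mul_assoc, ← e, mul_inv_cancel_right]
    rw [h2]
    exact mul_mem hd (inv_mem hc)
  have hqc : ∀ x : K a, (q : H) * x = x * q := fun x => (D.comm a b hab x x.2 q q.2).symm
  have hqi : ∀ x : K a, (q : H)⁻¹ * x = x * (q : H)⁻¹ := fun x => by
    rw [inv_mul_eq_iff_eq_mul, ← mul_assoc, hqc, mul_assoc, mul_inv_cancel, mul_one]
  have key : ∀ y ∈ S a, p * y * p⁻¹ ∈ S a := by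
    intro y hy
    obtain ⟨w, hw, e2⟩ := D.C_norm_S a _ h1 y hy
    have : p * y * p⁻¹ = w := by
      apply Subtype.ext
      rw [e2, coe_mul, coe_mul, coe_inv]
      have h3 := hqi (p * y * p⁻¹)
      rw [coe_mul, coe_mul, coe_inv] at h3
      calc (p : H) * y * (p : H)⁻¹ = ((p : H) * y * (p : H)⁻¹ * (q : H)⁻¹) * q := by group
        _ = (q : H)⁻¹ * ((p : H) * y * (p : H)⁻¹) * q := by rw [← h3]
        _ = (q : H)⁻¹ * p * y * ((q : H)⁻¹ * p)⁻¹ := by group
    rw [this]; exact hw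
  have key' : ∀ y ∈ S a, p⁻¹ * y * p ∈ S a := by
    intro y hy
    obtain ⟨w, hw, e2⟩ := D.C_norm_S a _ (inv_mem h1) y hy
    have : p⁻¹ * y * p = w := by
      apply Subtype.ext
      rw [e2, coe_mul, coe_mul, coe_inv]
      have h3 := hqc y
      calc (p : H)⁻¹ * y * (p : H) = (p : H)⁻¹ * (y * q) * (q : H)⁻¹ * p := by group
        _ = (p : H)⁻¹ * (q * y) * (q : H)⁻¹ * p := by rw [← h3]
        _ = ((q : H)⁻¹ * p)⁻¹ * y * ((q : H)⁻¹ * p)⁻¹⁻¹ := by group
    rw [this]; exact hw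
  rw [mem_normalizer_iff]
  intro y
  refine ⟨fun hy => key y hy, fun hy => ?_⟩
  have := key' _ hy
  have e : p⁻¹ * (p * y * p⁻¹) * p = y := by group
  rwa [e] at this

theorem digon : Digon (CC K S T) (PPx K S T P ⟨a, k⟩) (PPx K S T P ⟨b, l⟩) :=
  (D.pair hab k l).digon (D.inf_le hab k l)

/-- an element of `U ⊓ K b` acts trivially on the panels of `K a` -/
theorem mem_Qk_of {x : K b} (hx : (x : H) ∈ CC K S T) : (x : H) ∈ Qk (CC K S T) (PPx K S T P ⟨a, k⟩) :=
  (D.enl a).cen_mem_Qk (D.C_norm_P a k) hx fun y => (D.comm a b hab y y.2 x x.2).symm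

theorem both : ∀ u ∈ UE K S, ∀ v ∈ UE K S, ∃ w ∈ UE K S, u⁻¹ * w ∈ Qk (CC K S T) (PPx K S T P ⟨a, k⟩) ∧
    v⁻¹ * w ∈ Qk (CC K S T) (PPx K S T P ⟨b, l⟩) := by
  intro u hu v hv
  obtain ⟨s, hs, z, hz, hzc, rfl⟩ := (D.enl a).dec u hu
  obtain ⟨r, hr, y, hy, hyc, rfl⟩ := (D.enl b).dec v hv
  have hsU := (D.enl a).S_le s hs
  have hrU := (D.enl b).S_le r hr
  refine ⟨s * r, mul_mem hsU hrU, ?_, ?_⟩
  · have e : ((s : H) * z)⁻¹ * (s * r) = z⁻¹ * r := by group
    rw [e]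
    exact mul_mem (inv_mem ((D.enl a).cen_mem_Qk (D.C_norm_P a k) (D.U_le hz) hzc))
      (D.mem_Qk_of hab k (D.U_le hrU))
  · have h1 : (s : H) * r = r * s := D.comm a b hab s s.2 r r.2
    have e : ((r : H) * y)⁻¹ * (s * r) = y⁻¹ * s := by rw [h1]; group
    rw [e]
    exact mul_mem (inv_mem ((D.enl b).cen_mem_Qk (D.C_norm_P b l) (D.U_le hy) hyc))
      (D.mem_Qk_of hab.symm l (D.U_le hsU))

theorem sep_ne : SepG 2 (CC K S T) (UE K S) (PPx K S T P ⟨a, k⟩) (PPx K S T P ⟨b, l⟩) := by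
  obtain ⟨c, hc, ⟨n, hn, hcn⟩, h1⟩ := (D.sys b).fpf l
  refine ⟨c, (D.enl b).B_le c hc, ⟨n, hn, Enl.pow_coe hcn⟩, fun u hu => ?_, (D.enl b).fpfE (D.C_norm_P b l) h1⟩
  obtain ⟨r, hr, y, hy, hyc, rfl⟩ := (D.enl b).dec u hu
  rw [(D.enl b).comm_eq c r hyc]
  refine D.mem_Qk_of hab k ((D.enl b).B_le _ ?_)
  exact mul_mem (mul_mem (mul_mem hc (le_normalizer hr)) (inv_mem hc)) (inv_mem (le_normalizer hr))

end two

theorem three (x : Σ a, J a) : ∃ y ∈ PPx K S T P x, ∃ z ∈ PPx K S T P x, y ∉ CC K S T ∧ z ∉ CC K S T ∧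
    y⁻¹ * z ∉ CC K S T :=
  (D.enl x.1).three (three_of_relIndex (le_trans (by norm_num) ((D.sys x.1).five x.2)))

theorem ptr (x : Σ a, J a) : Hall.HallData.PTr (CC K S T) (UE K S) (PPx K S T P x) :=
  (D.enl x.1).ptr (D.C_norm_P x.1 x.2) ((D.sys x.1).ptr x.2)

/-- **The parabolic system of the product.** -/
theorem pre [Finite α] [Finite H] : Pre 2 (CC K S T) (UE K S) (PPx K S T P) (mm m) where
  U_le := D.U_le
  norm := D.C_norm_U
  isP := D.isP
  index := D.index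
  le := fun _ => C_le_Mx
  three := D.three
  ptr := D.ptr
  reg := fun x => (D.enl x.1).reg (D.C_norm_P x.1 x.2) ((D.sys x.1).reg x.2)
  fpf := fun x => (D.enl x.1).fpf (D.C_norm_P x.1 x.2) ((D.sys x.1).fpf x.2)
  m_two := by
    rintro ⟨a, k⟩ ⟨b, l⟩ hne
    by_cases hab : a = b
    · subst hab
      rw [mm_same]
      exact (D.sys a).m_two k l fun h => hne (by rw [h])
    · rw [mm_ne _ hab]
  m_symm := by
    rintro ⟨a, k⟩ ⟨b, l⟩
    by_cases hab : a = b
    · subst hab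
      rw [mm_same, mm_same]
      exact (D.sys a).m_symm k l
    · rw [mm_ne _ hab, mm_ne _ (Ne.symm hab)]
  poly := by
    rintro ⟨a, k⟩ ⟨b, l⟩ hne
    by_cases hab : a = b
    · subst hab
      rw [mm_same]
      have h := (D.sys a).poly k l fun h => hne (by rw [h])
      exact (polygon_reindex (fun k : J a => (⟨a, k⟩ : Σ a, J a))).2
        ((D.enl a).poly (D.C_norm_P a) (D.sys a).le h)
    · rw [mm_ne _ hab]
      have h3 : ∀ x : Σ a, J a, ∃ y ∈ PPx K S T P x, y ∉ CC K S T := fun x => by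
        obtain ⟨y, hy, _, _, h1, _⟩ := D.three x
        exact ⟨y, hy, h1⟩
      exact (D.digon hab k l).polygon D.U_le (D.ptr _) (D.ptr _) (D.both hab k l) (h3 _) (h3 _)
  sep := by
    rintro ⟨a, k⟩ ⟨b, l⟩ hne
    by_cases hab : a = b
    · subst hab
      have hkl : k ≠ l := fun h => hne (by rw [h])
      rcases (D.sys a).dich k with hk | hk
      · rcases (D.sys a).dich l with hl | hl
        · exact ((D.sys a).sep k l hkl (Or.inl ⟨hk, hl⟩)).imp
            (fun h => (D.enl a).sep (D.C_norm_P a k) (D.C_norm_P a l) h)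
            (fun h => (D.enl a).sep (D.C_norm_P a l) (D.C_norm_P a k) h)
        · exact Or.inl (D.sep_T hk hl)
      · rcases (D.sys a).dich l with hl | hl
        · exact Or.inr (D.sep_T hl hk)
        · exact ((D.sys a).sep k l hkl (Or.inr ⟨hk, hl⟩)).imp
            (fun h => (D.enl a).sep (D.C_norm_P a k) (D.C_norm_P a l) h)
            (fun h => (D.enl a).sep (D.C_norm_P a l) (D.C_norm_P a k) h)
    · exact Or.inl (D.sep_ne hab k l)
  frat := by
    rintro ⟨a, k⟩ ⟨b, l⟩ hne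
    by_cases hab : a = b
    · subst hab
      have hkl : k ≠ l := fun h => hne (by rw [h])
      exact (D.enl a).frat (D.C_norm_P a k) (D.C_norm_P a l) ((D.sys a).frat k l hkl)
    · intro X _ h
      exact (D.digon hab k l).frat h

end PSit

end Cfsg.Agent.Omega.Lie.End

end

end
end

-- part: Mrg/Omega/Lie/End/Real
section
prune_inst 0x110029440400000000180084010020042400019000200801f94000400046b301e0000141f4603a000118a6602008806000000049007800000400820040180120142a02001040b00001000040f886000000000000000000000000000000041004000000000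
set_option linter.all false
open scoped Cfsg.Agent.FastGrp

-- merged: Cfsg.Agent.Mrg.Omega.Lie.End.Up
section

/-!
# The end of NODE LIE: from `H = N(R)/O₂(N(R))` to `G`, and adding the node 0

`up R L` : the preimage in `G` of `L ≤ HQ R`.  `Pre.up`; `Pre.opt` : adding one node to a parabolic system.
-/

set_option autoImplicit false
set_option linter.unusedSectionVars false

namespace Cfsg.Agent.Omega.Lie.End

open Subgroup Cfsg.Agent.ParSys Cfsg.Agent.Omega.BTwo Cfsg.Agent.Omega.Lie.Quot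

universe u

section up

variable {G : Type u} [Group G] {R : Subgroup G}

/-- the preimage in `G` of a subgroup of `N(R)/O₂(N(R))` -/
def up (R : Subgroup G) (L : Subgroup (HQ R)) : Subgroup G :=
  (L.comap (pr R)).map (normalizer (R : Set G)).subtype

variable {L L' : Subgroup (HQ R)}

theorem mem_up {g : G} : g ∈ up R L ↔ ∃ hg : g ∈ normalizer (R : Set G), pr R ⟨g, hg⟩ ∈ L := by
  constructor
  · rintro ⟨x, hx, rfl⟩
    exact ⟨x.2, hx⟩
  · rintro ⟨hg, h⟩
    exact ⟨⟨g, hg⟩, h, rfl⟩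

theorem mem_up_iff {g : G} (hg : g ∈ normalizer (R : Set G)) : g ∈ up R L ↔ pr R ⟨g, hg⟩ ∈ L :=
  mem_up.trans ⟨fun h => h.2, fun h => ⟨hg, h⟩⟩

theorem up_le : up R L ≤ normalizer (R : Set G) := fun _ hg => (mem_up.1 hg).1

theorem up_mono (h : L ≤ L') : up R L ≤ up R L' := fun _ hg => by
  obtain ⟨h1, h2⟩ := mem_up.1 hg
  exact mem_up.2 ⟨h1, h h2⟩

theorem QQ_le_N : QQ R ≤ normalizer (R : Set G) := by
  rintro _ ⟨x, -, rfl⟩
  exact x.2

theorem QQ_le_up : QQ R ≤ up R L := by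
  intro g hg
  have h1 : g ∈ normalizer (R : Set G) := QQ_le_N hg
  refine mem_up.2 ⟨h1, ?_⟩
  rw [(pr_eq_one h1).2 hg]
  exact one_mem _

theorem im_up : im R (up R L) = L := by
  ext x
  obtain ⟨g, hg, rfl⟩ := exists_pr x
  rw [pr_mem_im_iff QQ_le_up, mem_up_iff hg]

/-- `up (im A) = A O₂(N(R))` -/
theorem mem_up_im {A : Subgroup G} {g : G} : g ∈ up R (im R A) ↔ ∃ a ∈ A, a ∈ normalizer (R : Set G) ∧ a⁻¹ * g ∈ QQ R := by
  constructor
  · intro h
    obtain ⟨hg, h1⟩ := mem_up.1 h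
    obtain ⟨a, ha, haA, e⟩ := mem_im.1 h1
    exact ⟨a, haA, ha, (pr_eq_pr ha hg).1 e⟩
  · rintro ⟨a, ha, haN, h⟩
    have hg : g ∈ normalizer (R : Set G) := by
      have := mul_mem haN (QQ_le_N h)
      rwa [mul_inv_cancel_left] at this
    exact mem_up.2 ⟨hg, mem_im.2 ⟨a, haN, ha, (pr_eq_pr haN hg).2 h⟩⟩

theorem le_up_im {A : Subgroup G} (hA : A ≤ normalizer (R : Set G)) : A ≤ up R (im R A) := fun g hg =>
  mem_up_im.2 ⟨g, hg, hA hg, by rw [inv_mul_cancel]; exact one_mem _⟩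

theorem up_sup : up R (L ⊔ L') = up R L ⊔ up R L' := by
  unfold up
  rw [← Subgroup.map_sup]
  congr 1
  exact (comap_sup_eq_of_le_range (pr R) (by rw [MonoidHom.range_eq_top.2 (pr_surjective R)]; exact le_top)
    (by rw [MonoidHom.range_eq_top.2 (pr_surjective R)]; exact le_top)).symm

theorem up_iSup {α : Type*} [Nonempty α] (L : α → Subgroup (HQ R)) : up R (⨆ a, L a) = ⨆ a, up R (L a) := by
  apply le_antisymm
  · intro g hg
    have hN : (⨆ a, up R (L a)) ≤ normalizer (R : Set G) := iSup_le fun _ => up_le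
    obtain ⟨hgN, h1⟩ := mem_up.1 hg
    obtain ⟨a₀⟩ := ‹Nonempty α›
    have hQ : QQ R ≤ ⨆ a, up R (L a) := (QQ_le_up (L := L a₀)).trans (le_iSup (fun a => up R (L a)) a₀)
    have h2 : (⨆ a, L a) ≤ im R (⨆ a, up R (L a)) := iSup_le fun a => by
      rw [← im_up (L := L a)]
      exact im_mono (le_iSup (fun a => up R (L a)) a)
    exact (pr_mem_im_iff hQ hgN).1 (h2 h1)
  · exact iSup_le fun a => up_mono (le_iSup L a)

theorem ker_pr [Finite G] : IsPGroup 2 (pr R).ker := by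
  have : (pr R).ker = pCore 2 ↥(normalizer (R : Set G)) := QuotientGroup.ker_mk' _
  rw [this]
  have hfact : Fact (Nat.Prime 2) := ⟨Nat.prime_two⟩
  exact Lib.Cores.pCore_isPGroup 2

/-- `up` maps normalisers to normalisers -/
theorem up_norm (h : L ≤ normalizer (L' : Set (HQ R))) : up R L ≤ normalizer (up R L' : Set G) := by
  have key : ∀ g ∈ up R L, ∀ x ∈ up R L', g * x * g⁻¹ ∈ up R L' := by
    intro g hg x hx
    obtain ⟨h1, h2⟩ := mem_up.1 hg
    obtain ⟨h3, h4⟩ := mem_up.1 hx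
    exact mem_up.2 ⟨mul_mem (mul_mem h1 h3) (inv_mem h1), (mem_normalizer_iff.mp (h h2) _).mp h4⟩
  intro g hg
  rw [mem_normalizer_iff]
  intro x
  refine ⟨fun hx => key g hg x hx, fun hx => ?_⟩
  have := key g⁻¹ (inv_mem hg) _ hx
  have e : g⁻¹ * (g * x * g⁻¹) * g⁻¹⁻¹ = x := by group
  rwa [e] at this

theorem Pre.up [Finite G] {I : Type*} {B U : Subgroup (HQ R)} {P : I → Subgroup (HQ R)} {m : I → I → ℕ}
    (D : Pre 2 B U P m) : Pre 2 (End.up R B) (End.up R U) (fun i => End.up R (P i)) m := by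
  have hfact : Fact (Nat.Prime 2) := ⟨Nat.prime_two⟩
  have hr : (pr R).range = ⊤ := MonoidHom.range_eq_top.2 (pr_surjective R)
  have h1 := D.comap (φ := pr R) ker_pr (by rw [hr]; exact le_top) (fun i => by rw [hr]; exact le_top)
  exact h1.map (φ := (normalizer (R : Set G)).subtype) (subtype_injective _)

/-- the kernel of a panel in `G` -/
theorem Qk_up {B P : Subgroup (HQ R)} : Qk (End.up R B) (End.up R P) = End.up R (Qk B P) := by
  have hr : (pr R).range = ⊤ := MonoidHom.range_eq_top.2 (pr_surjective R)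
  unfold End.up
  rw [Qk_map (subtype_injective _), Qk_comap (by rw [hr]; exact le_top)]

end up

/-! ### adding a node -/

section opt

variable {G : Type*} [Group G] {I : Type*}

end opt

end Cfsg.Agent.Omega.Lie.End

end

-- merged: Cfsg.Agent.Mrg.Omega.Lie.End.Real
section

section


/-!
# The end of NODE LIE: the parabolic system of the moved components in `G`

`RS` : an enumeration `K a` of the moved components of `H = N(R i)/O₂(N(R i))` with their parabolic systems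
(`KSys`).  `RS.psit` : `PSit`; `RS.realSys` : `RealSys` of `Top.lean` for `U = up (⨆ S ⊓ K)`,
`B = up ((⨆ N_K(S ⊓ K)) T)`, `P ⟨a, k⟩ = up (P_{a,k} B_E T)`.
-/

set_option autoImplicit false
set_option linter.unusedSectionVars false

namespace Cfsg.Agent.Omega.Lie.End

open Subgroup Cfsg Cfsg.Agent.ParSys Cfsg.Agent.Omega.BTwo Cfsg.Agent.Omega.Lie Cfsg.Agent.Omega.Lie.Quot
open Cfsg.Agent.Omega.IIa4 Cfsg.Agent.Omega.Lie.End.OfLay

universe u v w

variable {G : Type u} [Group G] {ι : Type w} {V : Subgroup G} {R : ι → Subgroup G} {F : Type v} [Field F] {i j : ι}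
  {v : F → F → G} {w1 w2 : F → G} {t : F → G}

/-- An enumeration of the moved components with their parabolic systems. -/
structure RS (V : Subgroup G) (R : ι → Subgroup G) (i j : ι) (T S : Subgroup (HQ (R i))) {α : Type}
    (K : α → Subgroup (HQ (R i))) (J : α → Type) (P : ∀ a, J a → Subgroup (K a)) (m : ∀ a, J a → J a → ℕ) : Prop where
  lay : Lay V R i j T S
  inj : Function.Injective K
  mem : ∀ a, MComp V R i j (K a)
  sur : ∀ L, MComp V R i j L → ∃ a, K a = L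
  sys : ∀ a, KSys (S.subgroupOf (K a)) (Tact T (K a)) (P a) (m a)
  sc : CompT.Scal (AA V R i j) T
  oddT : Odd (Nat.card T)
  T3 : 3 ≤ Nat.card T
  normal : (⨆ K ∈ {K : Subgroup (HQ (R i)) | MComp V R i j K}, K).Normal

/-- the Borel subgroup in `G` -/
abbrev BG {α : Type} (K : α → Subgroup (HQ (R i))) (T S : Subgroup (HQ (R i))) : Subgroup G :=
  up (R i) (CC K (fun a => S.subgroupOf (K a)) T)

/-- the unipotent subgroup in `G` -/
abbrev UG {α : Type} (K : α → Subgroup (HQ (R i))) (S : Subgroup (HQ (R i))) : Subgroup G :=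
  up (R i) (UE K (fun a => S.subgroupOf (K a)))

/-- the parabolic subgroups in `G` -/
abbrev PG {α : Type} (K : α → Subgroup (HQ (R i))) (T S : Subgroup (HQ (R i))) {J : α → Type}
    (P : ∀ a, J a → Subgroup (K a)) (x : Σ a, J a) : Subgroup G :=
  up (R i) (PPx K (fun a => S.subgroupOf (K a)) T P x)

namespace RS

variable {T S : Subgroup (HQ (R i))} {α : Type} {K : α → Subgroup (HQ (R i))} {J : α → Type}
  {P : ∀ a, J a → Subgroup (K a)} {m : ∀ a, J a → J a → ℕ} (D : RS V R i j T S K J P m)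
include D

theorem hyp (a : α) : CompB.Hyp S (AA V R i j) T (K a) := D.lay.hyp _ (D.mem a)

theorem comm [Finite G] : Cmf K := fun a b hab _ hx _ hy =>
  Layer.comm_of_ne (D.mem a).1 (D.mem b).1 (fun h => hab (D.inj h)) hx hy

theorem T_ne [Finite G] (a : α) : ∃ τ ∈ actT (K a) T, τ ≠ 1 := by
  by_contra hcon
  push Not at hcon
  have h1 : Nat.card (Tact T (K a)) = Nat.card T := card_Tact (D.hyp a) (D.mem a).2.2 D.sc
  have h2 : Tact T (K a) = ⊥ := by
    rw [eq_bot_iff]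
    exact fun τ hτ => mem_bot.2 (hcon τ hτ)
  have h3 := D.T3
  rw [h2, card_bot] at h1
  omega

theorem psit [Finite G] : PSit K (fun a => S.subgroupOf (K a)) T J P m where
  comm := D.comm
  oddT := D.oddT
  T_K := fun a => T_le (D.hyp a).toPre
  T_S := by
    intro a t ht x hx
    have hK := (D.hyp a).TK t ht x x.2
    exact ⟨⟨_, hK⟩, mem_subgroupOf.2 ((D.hyp a).TS t ht x (mem_subgroupOf.1 hx)), rfl⟩
  T_ne := D.T_ne
  sys := D.sys

/-- `U` is in `S` -/
theorem UE_le_S : UE K (fun a => S.subgroupOf (K a)) ≤ S := by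
  refine iSup_le fun a => ?_
  rintro _ ⟨x, hx, rfl⟩
  exact mem_subgroupOf.1 hx

/-- `A ≤ U` -/
theorem A_le_UE [Finite G] (b : BT V R) (hij : i ≠ j) : AA V R i j ≤ UE K (fun a => S.subgroupOf (K a)) := by
  refine (D.lay.A_le b hij).trans (iSup₂_le fun L hL => ?_)
  obtain ⟨a, rfl⟩ := D.sur L hL
  intro x hx
  exact (le_iSup (fun a => (S.subgroupOf (K a)).map (K a).subtype) a)
    ⟨⟨x, hx.2⟩, mem_subgroupOf.2 ((D.hyp a).AS hx.1), rfl⟩

/-- `C` normalises `A` -/
theorem CC_norm_A [Finite G] : CC K (fun a => S.subgroupOf (K a)) T ≤ normalizer (AA V R i j : Set (HQ (R i))) := by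
  refine sup_le (iSup_le fun a => ?_) fun t ht => ?_
  · rintro _ ⟨x, hx, rfl⟩
    exact NA.norm_A_of_ksys (D.hyp a) (D.sys a) x.2 hx
  · refine NA.mem_norm (fun x hx => D.sc.norm t ht x hx) fun x hx => ?_
    have := D.sc.norm t⁻¹ (inv_mem ht) x hx
    rwa [inv_inv] at this

/-- `E = ⨆ K a` -/
theorem iSup_eq : (⨆ K ∈ {K : Subgroup (HQ (R i)) | MComp V R i j K}, K) = ⨆ a, K a := by
  apply le_antisymm
  · refine iSup₂_le fun L hL => ?_
    obtain ⟨a, rfl⟩ := D.sur L hL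
    exact le_iSup K a
  · exact iSup_le fun a => le_iSup₂ (f := fun (L : Subgroup (HQ (R i)))
      (_ : L ∈ {K : Subgroup (HQ (R i)) | MComp V R i j K}) => L) (K a) (D.mem a)

theorem EE_eq [Finite G] (b : BT V R) (hij : i ≠ j) : Moved.EE V R i j = up (R i) (⨆ a, K a) := by
  rw [← D.iSup_eq, ← D.lay.nc_eq b hij D.normal]
  rfl

/-! ### `RealSys` -/

theorem E_le [Finite G] [Nonempty α] (b : BT V R) (hij : i ≠ j) : Moved.EE V R i j ≤ ⨆ x, PG K T S P x := by
  rw [D.EE_eq b hij, up_iSup]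
  refine iSup_le fun a => ?_
  have hne : Nonempty (J a) := by
    obtain ⟨k, -⟩ := (D.sys a).moved
    exact ⟨k⟩
  have h1 : K a ≤ ⨆ k, PPx K (fun a => S.subgroupOf (K a)) T P ⟨a, k⟩ := by
    have h2 := congrArg (Subgroup.map (K a).subtype) (D.sys a).gen
    rw [Subgroup.map_iSup, ← MonoidHom.range_eq_map, range_subtype] at h2
    rw [← h2]
    exact iSup_mono fun k => le_sup_left
  refine (up_mono h1).trans ?_
  rw [up_iSup]
  exact iSup_le fun k => le_iSup (PG K T S P) ⟨a, k⟩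

theorem up_T_le (τ : TorD V R i j v t) : up (R i) (TT τ) ≤ XX V R ⊔ Moved.EE V R i j := by
  intro g hg
  obtain ⟨a, ha, -, h1⟩ := mem_up_im.1 hg
  have e : g = a * (a⁻¹ * g) := by group
  rw [e]
  refine mul_mem (mem_sup_left ?_) (mem_sup_right (Moved.QQ_le_up h1))
  obtain ⟨c, hc, rfl⟩ := ha
  exact τ.memX c hc

theorem le_E [Finite G] (b : BT V R) (hij : i ≠ j) (hT : up (R i) T ≤ XX V R ⊔ Moved.EE V R i j) (x : Σ a, J a) :
    PG K T S P x ≤ XX V R ⊔ Moved.EE V R i j := by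
  have h1 : PPx K (fun a => S.subgroupOf (K a)) T P x ≤ (⨆ a, K a) ⊔ T := by
    refine sup_le ?_ (sup_le ?_ le_sup_right)
    · exact (map_subtype_le _).trans ((le_iSup K x.1).trans le_sup_left)
    · exact (iSup_mono fun a => map_subtype_le _).trans le_sup_left
  refine (up_mono h1).trans ?_
  rw [up_sup, ← D.EE_eq b hij]
  exact sup_le le_sup_right hT

end RS

end Cfsg.Agent.Omega.Lie.End

end

section


/-!
# The end of NODE LIE: `RealSys` from `RS`
-/

set_option autoImplicit false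
set_option linter.unusedSectionVars false

namespace Cfsg.Agent.Omega.Lie.End

open Subgroup Cfsg Cfsg.Agent.ParSys Cfsg.Agent.Omega.BTwo Cfsg.Agent.Omega.Lie Cfsg.Agent.Omega.Lie.Quot
open Cfsg.Agent.Omega.IIa4 Cfsg.Agent.Omega.Lie.End.OfLay

universe u v w

variable {G : Type u} [Group G] {ι : Type w} {V : Subgroup G} {R : ι → Subgroup G} {F : Type v} [Field F] {i j : ι}
  {v : F → F → G} {w1 w2 : F → G} {t : F → G}

namespace RS

variable {T S : Subgroup (HQ (R i))} {α : Type} {K : α → Subgroup (HQ (R i))} {J : α → Type}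
  {P : ∀ a, J a → Subgroup (K a)} {m : ∀ a, J a → J a → ℕ} (D : RS V R i j T S K J P m)
include D

theorem UG_le_cen (b : BT V R) : UG K S ≤ centralizer (R i : Set G) := by
  rw [← Moved.up_H0 b]
  refine up_mono (iSup_le fun a => ?_)
  exact (map_subtype_le _).trans (D.mem a).2.1

theorem K_le_cen (b : BT V R) (a : α) : up (R i) (K a) ≤ centralizer (R i : Set G) := by
  rw [← Moved.up_H0 b]
  exact up_mono (D.mem a).2.1

/-- the parabolic system in `G` -/
theorem preG [Finite G] [Finite α] : Pre 2 (BG K T S) (UG K S) (PG K T S P) (mm m) := D.psit.pre.up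

theorem BG_le (hNV : ∀ (g : G) (hg : g ∈ normalizer (R i : Set G)),
    pr (R i) ⟨g, hg⟩ ∈ normalizer (AA V R i j : Set (HQ (R i))) → g ∈ normalizer (V : Set G)) [Finite G] :
    BG K T S ≤ normalizer (V : Set G) := fun g hg => by
  obtain ⟨h1, h2⟩ := mem_up.1 hg
  exact hNV g h1 (D.CC_norm_A h2)

theorem Y_le_UG [Finite G] (b : BT V R) (hij : i ≠ j) : YY V R ≤ UG K S := by
  refine (le_up_im ((YY_le_cen).trans (b.cen_le_N i))).trans (up_mono ?_)
  rw [Moved.im_YY b hij]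
  exact D.A_le_UE b hij

theorem A_le_UG [Finite G] (b : BT V R) (hij : i ≠ j) : UU V R j ≤ UG K S :=
  (UU_le_YY j).trans (D.Y_le_UG b hij)

/-- a moved node is not in `N(V)` -/
theorem not_le_of_moved [Finite G] (b : BT V R) (hij : i ≠ j) {a : α} {k : J a}
    (hm : End.Moved (S.subgroupOf (K a)) (Tact T (K a)) (P a k)) : ¬ PG K T S P ⟨a, k⟩ ≤ normalizer (V : Set G) := by
  intro hle
  -- `P a k` normalises `A ⊓ K a`
  have h1 : ∀ x ∈ P a k, ∀ y ∈ AT (S.subgroupOf (K a)) (Tact T (K a)),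
      x * y * x⁻¹ ∈ AT (S.subgroupOf (K a)) (Tact T (K a)) := by
    intro x hx y hy
    rw [AT_eq (D.hyp a)] at hy ⊢
    obtain ⟨g, hg, e⟩ := exists_pr (x : HQ (R i))
    have h2 : g ∈ PG K T S P ⟨a, k⟩ := by
      refine mem_up.2 ⟨hg, ?_⟩
      rw [e]
      exact mem_sup_left ⟨x, hx, rfl⟩
    have h3 := Moved.norm_A b hij hg (hle h2) y (mem_subgroupOf.1 hy).1
    rw [e] at h3
    exact mem_subgroupOf.2 ⟨h3, SetLike.coe_mem (x * y * x⁻¹)⟩
  -- hence it is in the kernel of the panel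
  have h2 : AT (S.subgroupOf (K a)) (Tact T (K a)) ≤ S.subgroupOf (K a) := by
    rw [AT_eq (D.hyp a)]
    exact fun x hx => mem_subgroupOf.2 ((D.hyp a).AS (mem_subgroupOf.1 hx).1)
  have h3 : AT (S.subgroupOf (K a)) (Tact T (K a)) ≤ Qk (normalizer (S.subgroupOf (K a) : Set (K a))) (P a k) := by
    intro x hx
    rw [ParSys.mem_Qk]
    intro g hg
    have h4 := h1 g⁻¹ (inv_mem hg) x hx
    rw [inv_inv] at h4
    exact le_normalizer (h2 h4)
  -- so `S ⊓ K a` is in the kernel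
  obtain ⟨τ, hτ, hne⟩ := D.T_ne a
  have h4 : S.subgroupOf (K a) ≤ Qk (normalizer (S.subgroupOf (K a) : Set (K a))) (P a k) := by
    intro u hu
    refine hm τ hτ hne u hu (h3 (subset_closure ⟨τ, hτ, u, hu, rfl⟩))
  -- a contradiction
  have h5 := (D.sys a).five k
  obtain ⟨x, hx, y, hy, hxB, hyB, hxy⟩ := three_of_relIndex (B := normalizer (S.subgroupOf (K a) : Set (K a)))
    (P := P a k) (by omega)
  obtain ⟨u, hu, z, hz, e⟩ := (D.sys a).ptr k x hx hxB y hy hyB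
  apply hxy
  have e2 : x⁻¹ * y = (x⁻¹ * u * x) * z := by rw [e]; group
  rw [e2]
  exact mul_mem (ParSys.mem_Qk.1 (h4 hu) x hx) hz

theorem conn [Finite G] (b : BT V R) (hij : i ≠ j) : ∀ I : Set (Σ a, J a), I.Nonempty →
    (∀ k ∈ I, ∀ l ∉ I, mm m k l < 3) → ∃ k ∈ I, ¬ PG K T S P k ≤ normalizer (V : Set G) := by
  rintro I ⟨⟨a, k⟩, hk⟩ h
  obtain ⟨l, hl⟩ := (D.sys a).moved
  refine ⟨⟨a, l⟩, ?_, D.not_le_of_moved b hij hl⟩
  by_contra hlI
  obtain ⟨x, hx, y, hy, h3⟩ := (D.sys a).conn {x | (⟨a, x⟩ : Σ a, J a) ∈ I} ⟨k, hk⟩ ⟨l, hlI⟩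
  have h4 := h ⟨a, x⟩ hx ⟨a, y⟩ hy
  rw [mm_same] at h4
  omega

theorem A_gen [Finite G] (b : BT V R) (hij : i ≠ j) :
    AA V R i j ≤ closure {g | ∃ s ∈ UE K (fun a => S.subgroupOf (K a)), ∃ t ∈ T, s⁻¹ * (t * s * t⁻¹) = g} := by
  refine (D.lay.A_le b hij).trans (iSup₂_le fun L hL => ?_)
  obtain ⟨a, rfl⟩ := D.sur L hL
  rw [(D.hyp a).inf_eq]
  refine closure_mono ?_
  rintro g ⟨s, hs, t, ht, rfl⟩
  exact ⟨s, le_iSup (fun a => (S.subgroupOf (K a)).map (K a).subtype) a ⟨⟨s, hs.2⟩, mem_subgroupOf.2 hs.1, rfl⟩,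
    t, ht, rfl⟩

/-- `A` is in the kernel of the unmoved panels -/
theorem A_le_Qk [Finite G] (b : BT V R) (hij : i ≠ j) {a : α} {k : J a}
    (hu : Unmoved (S.subgroupOf (K a)) (Tact T (K a)) (P a k)) :
    AA V R i j ≤ Qk (CC K (fun a => S.subgroupOf (K a)) T) (PPx K (fun a => S.subgroupOf (K a)) T P ⟨a, k⟩) := by
  refine (D.A_gen b hij).trans ?_
  rw [closure_le]
  rintro _ ⟨s, hs, t, ht, rfl⟩
  have h1 := D.psit.unmoved hu ht hs
  have h2 : s ∈ PPx K (fun a => S.subgroupOf (K a)) T P ⟨a, k⟩ := D.psit.PPx_le _ (D.psit.U_le hs)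
  have h3 := Qk_conj h1 h2
  have e : s⁻¹ * (t * s * t⁻¹ * s⁻¹) * s = s⁻¹ * (t * s * t⁻¹) := by group
  rwa [e] at h3

theorem U_le_Qk [Finite G] (b : BT V R) (hij : i ≠ j) {a : α} {k : J a}
    (hu : Unmoved (S.subgroupOf (K a)) (Tact T (K a)) (P a k)) :
    UU V R j ≤ Qk (BG K T S) (PG K T S P ⟨a, k⟩) := by
  rw [Qk_up]
  exact (le_up_im (U_le_N b i j)).trans (up_mono (D.A_le_Qk b hij hu))

/-- **the data at the node 0** -/
theorem datG [Finite G] [Finite F] [CharP F 2] [Finite α] (b : BTC V R) (c : Coord V R i j v w1 w2)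
    (τ : TorD V R i j v t) (hij : i ≠ j) (hT : T = TT τ)
    (hNV : ∀ (g : G) (hg : g ∈ normalizer (R i : Set G)),
      pr (R i) ⟨g, hg⟩ ∈ normalizer (AA V R i j : Set (HQ (R i))) → g ∈ normalizer (V : Set G)) :
    Zero.Dat V R i (BG K T S) (UG K S) := by
  refine Zero.dat_of b c τ (D.BG_le hNV) up_le D.preG.U_le ((b.W_le_Q i).trans QQ_le_up) (D.Y_le_UG b.toBT hij) ?_
    D.preG.isP (D.UG_le_cen b.toBT)
  have h1 : τ.grp ≤ normalizer (R i : Set G) := by
    rintro _ ⟨a, ha, rfl⟩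
    exact τ.normR ha
  refine (le_up_im h1).trans (up_mono ?_)
  rw [hT]
  exact le_sup_right

/-- **the unmoved nodes normalise `V`** -/
theorem unmoved_le [Finite G] [Finite α] (b : BT V R) (c : Coord V R i j v w1 w2) (hij : i ≠ j)
    (hd : Zero.Dat V R i (BG K T S) (UG K S))
    (hCA : ∀ x ∈ WW V (R i), (∀ u ∈ UU V R j, u * x * u⁻¹ * x⁻¹ ∈ R i) → x ∈ V) {a : α} {k : J a}
    (hu : Unmoved (S.subgroupOf (K a)) (Tact T (K a)) (P a k)) :
    PG K T S P ⟨a, k⟩ ≤ normalizer (V : Set G) :=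
  Zero.unmoved_le b hd c up_le D.preG.norm D.preG.index (D.U_le_Qk b hij hu) hCA

/-- a node is moved iff it is not in `N(V)` -/
theorem moved_iff [Finite G] [Finite α] (b : BT V R) (c : Coord V R i j v w1 w2) (hij : i ≠ j)
    (hd : Zero.Dat V R i (BG K T S) (UG K S))
    (hCA : ∀ x ∈ WW V (R i), (∀ u ∈ UU V R j, u * x * u⁻¹ * x⁻¹ ∈ R i) → x ∈ V) {a : α} {k : J a} :
    End.Moved (S.subgroupOf (K a)) (Tact T (K a)) (P a k) ↔ ¬ PG K T S P ⟨a, k⟩ ≤ normalizer (V : Set G) := by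
  refine ⟨D.not_le_of_moved b hij, fun h => ?_⟩
  rcases (D.sys a).dich k with h1 | h1
  · exact absurd (D.unmoved_le b c hij hd hCA h1) h
  · exact h1

/-- `P k ≤ (P k ⊓ C(R i)) B` -/
theorem PG_le (b : BT V R) (x : Σ a, J a) : PG K T S P x ≤ (PG K T S P x ⊓ centralizer (R i : Set G)) ⊔ BG K T S := by
  have h1 : PG K T S P x = up (R i) ((P x.1 x.2).map (K x.1).subtype) ⊔ BG K T S := up_sup
  have h2 : up (R i) ((P x.1 x.2).map (K x.1).subtype) ≤ PG K T S P x ⊓ centralizer (R i : Set G) := by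
    refine le_inf (up_mono le_sup_left) ?_
    exact (up_mono (map_subtype_le _)).trans (D.K_le_cen b x.1)
  calc PG K T S P x = up (R i) ((P x.1 x.2).map (K x.1).subtype) ⊔ BG K T S := h1
    _ ≤ _ := sup_le_sup_right h2 _

/-- an unmoved node is a product with the node 0 -/
theorem prod [Finite G] [Finite α] [CharP F 2] (b : BT V R) (c : Coord V R i j v w1 w2)
    (hd : Zero.Dat V R i (BG K T S) (UG K S)) (x : Σ a, J a) (hx : PG K T S P x ≤ normalizer (V : Set G)) :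
    ∃ L ≤ centralizer (V : Set G), BG K T S ≤ normalizer (L : Set G) ∧ PG K T S P x = L ⊔ BG K T S := by
  have hp := D.preG
  refine Zero.exists_L b hd c (hp.le x) hx (D.PG_le b x) hp.isP (D.UG_le_cen b)
    (hp.odd_relIndex' x (le_inf (hp.U_le.trans (hp.le x)) (D.UG_le_cen b)) inf_le_left) ?_
  exact (inf_le_inf_right _ inf_le_left).trans (hp.inf_norm_le x)

/-- **`RealSys`** -/
theorem realSys [Finite G] [Finite F] [CharP F 2] [Finite α] [Nonempty α] (b : BTC V R) (c : Coord V R i j v w1 w2)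
    (τ : TorD V R i j v t) (hij : i ≠ j) (hT : T = TT τ)
    (hNV : ∀ (g : G) (hg : g ∈ normalizer (R i : Set G)),
      pr (R i) ⟨g, hg⟩ ∈ normalizer (AA V R i j : Set (HQ (R i))) → g ∈ normalizer (V : Set G)) :
    RealSys V R i (IIa4.Moved.EE V R i j) (BG K T S) (UG K S) (PG K T S P) (mm m) := by
  have hd := D.datG b c τ hij hT hNV
  refine ⟨hd, D.preG, D.E_le b.toBT hij, ?_, D.prod b.toBT c hd, D.conn b.toBT hij⟩
  refine D.le_E b.toBT hij ?_
  rw [hT]
  exact D.up_T_le τ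

end RS

end Cfsg.Agent.Omega.Lie.End

end

section


/-!
# II.0h1, split: `RealSys` from the enumeration `RS` of the moved components (BTS version)

`datS` : the data at the node 0; `realSysS` : `RealSys`; `UG_le` : `U ≤ S₁`; `PG_le_NR` : the nodes lie in `N(R i)`.
-/

set_option autoImplicit false
set_option linter.unusedSectionVars false

namespace Cfsg.Agent.Omega.HOne.RealOf

open Subgroup Cfsg Cfsg.Agent.ParSys Cfsg.Agent.Omega.BTwo Cfsg.Agent.Omega.Lie Cfsg.Agent.Omega.Lie.Quot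
open Cfsg.Agent.Omega.IIa4 Cfsg.Agent.Omega.Lie.End.OfLay Cfsg.Agent.Omega.Lie.End

universe u v w

variable {G : Type u} [Group G] {ι : Type w} {V : Subgroup G} {R : ι → Subgroup G} {F : Type v} [Field F] {i j : ι}
  {v : F → F → G} {w1 w2 : F → G} {t : F → G}

variable {T S : Subgroup (HQ (R i))} {α : Type} {K : α → Subgroup (HQ (R i))} {J : α → Type}
  {P : ∀ a, J a → Subgroup (K a)} {m : ∀ a, J a → J a → ℕ} (D : RS V R i j T S K J P m)
include D

/-- **the data at the node 0** -/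
theorem datS [Finite G] [Finite F] [CharP F 2] [Finite α] (hF : ∃ a : F, a ≠ 0 ∧ a ≠ 1) (b : BTS V R)
    (c : Coord V R i j v w1 w2) (τ : TorD V R i j v t) (hij : i ≠ j) (hT : T = TT τ)
    (hNV : ∀ (g : G) (hg : g ∈ normalizer (R i : Set G)),
      pr (R i) ⟨g, hg⟩ ∈ normalizer (AA V R i j : Set (HQ (R i))) → g ∈ normalizer (V : Set G)) :
    Zero.Dat V R i (BG K T S) (UG K S) := by
  refine XV.dat_of hF b c τ (D.BG_le hNV) up_le D.preG.U_le ((b.W_le_Q i).trans QQ_le_up) (D.Y_le_UG b.toBT hij) ?_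
    D.preG.isP (D.UG_le_cen b.toBT)
  have h1 : τ.grp ≤ normalizer (R i : Set G) := by
    rintro _ ⟨a, ha, rfl⟩
    exact τ.normR ha
  refine (le_up_im h1).trans (up_mono ?_)
  rw [hT]
  exact le_sup_right

/-- **`RealSys`** -/
theorem realSysS [Finite G] [Finite F] [CharP F 2] [Finite α] [Nonempty α] (hF : ∃ a : F, a ≠ 0 ∧ a ≠ 1)
    (b : BTS V R) (c : Coord V R i j v w1 w2) (τ : TorD V R i j v t) (hij : i ≠ j) (hT : T = TT τ)
    (hNV : ∀ (g : G) (hg : g ∈ normalizer (R i : Set G)),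
      pr (R i) ⟨g, hg⟩ ∈ normalizer (AA V R i j : Set (HQ (R i))) → g ∈ normalizer (V : Set G)) :
    RealSys V R i (IIa4.Moved.EE V R i j) (BG K T S) (UG K S) (PG K T S P) (mm m) := by
  have hd := datS D hF b c τ hij hT hNV
  refine ⟨hd, D.preG, D.E_le b.toBT hij, ?_, D.prod b.toBT c hd, D.conn b.toBT hij⟩
  refine D.le_E b.toBT hij ?_
  rw [hT]
  exact D.up_T_le τ

theorem PG_le_NR (x : Σ a, J a) : PG K T S P x ≤ normalizer (R i : Set G) := up_le

end Cfsg.Agent.Omega.HOne.RealOf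

end

section


/-!
# The end of NODE LIE: enumeration of the moved components (`RS`)

`AA_ne_bot` : `A ≠ 1`; `exists_mcomp` : there is a moved component;
`exists_RS` : an enumeration `K : Fin n → Subgroup (HQ (R i))` of the moved components with their parabolic systems,
from LAYER and the K-side.
-/

set_option autoImplicit false
set_option linter.unusedSectionVars false

namespace Cfsg.Agent.Omega.Lie.End.RealEnum

open Subgroup Cfsg Cfsg.Agent.ZN Cfsg.Agent.Omega.NatPair Cfsg.Agent.Omega.BTwo Cfsg.Agent.Omega.Frame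
open Cfsg.Agent.Omega.Lie Cfsg.Agent.Omega.Lie.Quot Cfsg.Agent.Omega.IIa4 Cfsg.Agent.Omega.Lie.End
open Cfsg.Agent.Omega.Lie.End.OfLay

universe u

/-- enumeration of the subgroups with a property -/
theorem exists_enum {H : Type*} [Group H] [Finite H] (p : Subgroup H → Prop) :
    ∃ (n : ℕ) (K : Fin n → Subgroup H), Function.Injective K ∧ ∀ L, p L ↔ ∃ a, K a = L := by
  have hfin : Finite {L : Subgroup H // p L} := inferInstance
  refine ⟨Nat.card {L : Subgroup H // p L}, fun a => ((Finite.equivFin {L : Subgroup H // p L}).symm a).1, ?_, ?_⟩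
  · intro a c h
    exact (Finite.equivFin {L : Subgroup H // p L}).symm.injective (Subtype.ext h)
  · intro L
    constructor
    · intro h
      exact ⟨Finite.equivFin {L : Subgroup H // p L} ⟨L, h⟩, by simp⟩
    · rintro ⟨a, rfl⟩
      exact ((Finite.equivFin {L : Subgroup H // p L}).symm a).2

variable {G : Type u} [Group G] {ι : Type*} {V : Subgroup G} {R : ι → Subgroup G} {i j : ι}

/-- `A ≠ 1` -/
theorem AA_ne_bot [Finite G] (b : BTC V R) (S₁ : Sylow 2 G) (hij : i ≠ j)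
    (hSV : (S₁ : Subgroup G) ≤ normalizer (V : Set G)) (hSR : (S₁ : Subgroup G) ≤ normalizer (R i : Set G)) :
    AA V R i j ≠ ⊥ := by
  intro h0
  refine Cz.not_UU_le b S₁ hij hSV hSR fun u hu => ?_
  refine (U_inf_Q b.toBT hij hu).1 ?_
  have h1 : pr (R i) ⟨u, U_le_N b.toBT i j hu⟩ ∈ AA V R i j := (mem_AA b.toBT).2 ⟨u, hu, rfl⟩
  rw [h0, mem_bot] at h1
  exact (pr_eq_one _).1 h1

/-- there is a moved component if `A ≠ 1` -/
theorem exists_mcomp_of_ne [Finite G] (b : BT V R) (hij : i ≠ j) (hA : AA V R i j ≠ ⊥)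
    {T S : Subgroup (HQ (R i))} (l : Lay V R i j T S) : ∃ K : Subgroup (HQ (R i)), MComp V R i j K := by
  by_contra hcon
  push Not at hcon
  refine hA (eq_bot_iff.2 ((l.A_le b hij).trans (iSup₂_le fun K hK => ?_)))
  exact absurd hK (hcon K)

/-- there is a moved component -/
theorem exists_mcomp [Finite G] (b : BTC V R) (S₁ : Sylow 2 G) (hij : i ≠ j)
    (hSV : (S₁ : Subgroup G) ≤ normalizer (V : Set G)) (hSR : (S₁ : Subgroup G) ≤ normalizer (R i : Set G))
    {T S : Subgroup (HQ (R i))} (l : Lay V R i j T S) : ∃ K : Subgroup (HQ (R i)), MComp V R i j K :=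
  exists_mcomp_of_ne b.toBT hij (AA_ne_bot b S₁ hij hSV hSR) l

/-- **Enumeration of the moved components**, abstract form with an additional property `Φ K J P` of the systems. -/
theorem exists_RS_of_prop [Finite G] {T S : Subgroup (HQ (R i))} (l : Lay V R i j T S)
    (Φ : ∀ (K : Subgroup (HQ (R i))) (J : Type), (J → Subgroup K) → Prop)
    (hsys : ∀ K : Subgroup (HQ (R i)), MComp V R i j K → ∃ (J : Type) (_ : Finite J) (P : J → Subgroup K)
      (m : J → J → ℕ), KSys (S.subgroupOf K) (Tact T K) P m ∧ Φ K J P)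
    (sc : CompT.Scal (AA V R i j) T) (oddT : Odd (Nat.card T)) (T3 : 3 ≤ Nat.card T)
    (hn : (⨆ K ∈ {K : Subgroup (HQ (R i)) | MComp V R i j K}, K).Normal)
    (hne : ∃ K : Subgroup (HQ (R i)), MComp V R i j K) :
    ∃ (n : ℕ) (K : Fin n → Subgroup (HQ (R i))) (J : Fin n → Type) (P : ∀ a, J a → Subgroup (K a))
      (m : ∀ a, J a → J a → ℕ), (∀ a, Finite (J a)) ∧ Nonempty (Fin n) ∧ RS V R i j T S K J P m ∧
        ∀ a, Φ (K a) (J a) (P a) := by
  obtain ⟨n, K, hinj, hK⟩ := exists_enum (MComp V R i j)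
  have hK' : ∀ a, MComp V R i j (K a) := fun a => (hK _).2 ⟨a, rfl⟩
  choose J hJ P m hs using fun a => hsys (K a) (hK' a)
  obtain ⟨L, hL⟩ := hne
  obtain ⟨a₀, -⟩ := (hK L).1 hL
  exact ⟨n, K, J, P, m, hJ, ⟨a₀⟩, ⟨l, hinj, hK', fun L hL => (hK L).1 hL, fun a => (hs a).1, sc, oddT, T3, hn⟩,
    fun a => (hs a).2⟩

/-- **Enumeration of the moved components**, from LAYER and `KSideX`, with `Opp` and `OneL`. -/
theorem exists_RSX [Finite G] {F : Type*} [Field F] [Finite F] [CharP F 2] {v : F → F → G} {t : F → G}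
    (hks : KSideX.{u}) (b : BT V R) (τ : TorD V R i j v t) (hij : i ≠ j) (h4 : 4 ≤ Nat.card F)
    {S : Subgroup (HQ (R i))} (l : Lay V R i j (TT τ) S)
    (hexc : ∀ K : Subgroup (HQ (R i)), MComp V R i j K → ¬ KExc K (S.subgroupOf K) (Tact (TT τ) K))
    (hn : (⨆ K ∈ {K : Subgroup (HQ (R i)) | MComp V R i j K}, K).Normal)
    (hne : ∃ K : Subgroup (HQ (R i)), MComp V R i j K) :
    ∃ (n : ℕ) (K : Fin n → Subgroup (HQ (R i))) (J : Fin n → Type) (P : ∀ a, J a → Subgroup (K a))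
      (m : ∀ a, J a → J a → ℕ), (∀ a, Finite (J a)) ∧ Nonempty (Fin n) ∧ RS V R i j (TT τ) S K J P m ∧
        ∀ a, Opp (normalizer (S.subgroupOf (K a) : Set (K a))) (S.subgroupOf (K a)) (P a) ∧ OneL (K a) (J a) :=
  exists_RS_of_prop l
    (fun K J P => Opp (normalizer (S.subgroupOf K : Set K)) (S.subgroupOf K) P ∧ OneL K J)
    (fun K hK => (ksysX_of_lay hks b τ hij h4 l hK).resolve_right (hexc K hK)) (scal b τ hij)
    (odd_TT b τ) (three_le_TT b τ h4) hn hne

end Cfsg.Agent.Omega.Lie.End.RealEnum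

end

end
end
end
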